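import Mathlib

/-!
Groups in which every cyclic subgroup of prime power order has trivial intersections: the centraliser
of an element of prime order normalises every cyclic group of prime power order containing it.
-/

set_option autoImplicit false
set_option linter.style.haveILetI false

namespace Cfsg.Agent.CyclicTI

open Subgroup

universe u

/-- Every cyclic subgroup of prime power order meets each of its conjugates trivially or entirely. -/
def TI (G : Type u) [Group G] : Prop :=
  ∀ H : Subgroup G, IsCyclic H → IsPrimePow (Nat.card H) →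
    ∀ g : G, (H).map (MulAut.conj g).toMonoidHom = H ∨ (H).map (MulAut.conj g).toMonoidHom ⊓ H = ⊥

variable {G : Type u} [Group G]

theorem TI.conj_mem (h : TI G) {x g z : G} {p k : ℕ} (hp : p.Prime) (hx : orderOf x = p ^ k)
    (hz : z ∈ zpowers x) (hz1 : z ≠ 1) (hc : Commute g z) : g * x * g⁻¹ ∈ zpowers x := by
  have hk : k ≠ 0 := fun e => by
    rw [e, pow_zero, orderOf_eq_one_iff] at hx
    exact hz1 (by rw [hx, zpowers_one_eq_bot, mem_bot] at hz; exact hz)
  rcases h (zpowers x) inferInstance (by rw [Nat.card_zpowers, hx]; exact hp.isPrimePow.pow hk) g with e | e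
  · have hm : g * x * g⁻¹ ∈ (zpowers x).map (MulAut.conj g).toMonoidHom :=
      ⟨x, mem_zpowers x, by simp⟩
    rwa [e] at hm
  · exfalso
    refine hz1 ?_
    have hm : z ∈ (zpowers x).map (MulAut.conj g).toMonoidHom ⊓ zpowers x := by
      refine mem_inf.2 ⟨⟨z, hz, ?_⟩, hz⟩
      simp [hc.eq]
    rwa [e, mem_bot] at hm

theorem orderOf_four {x z : G} (hx : x * x = z) (hz : orderOf z = 2) : orderOf x = 4 := by
  have hz1 : z ≠ 1 := fun e => by rw [e, orderOf_one] at hz; omega
  refine orderOf_eq_prime_pow (p := 2) (n := 1) ?_ ?_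
  · rw [pow_one, pow_two, hx]; exact hz1
  · rw [show 2 ^ (1 + 1) = 2 * 2 by norm_num, pow_mul, pow_two x, hx, ← hz, pow_orderOf_eq_one]

theorem orderOf_sq_four {x : G} (hx : orderOf x = 4) : orderOf (x * x) = 2 := by
  rw [← pow_two, orderOf_pow_of_dvd (by norm_num) (by rw [hx]; norm_num), hx]

/-- A centraliser of an involution fixes or inverts each of its square roots. -/
theorem TI.root (h : TI G) {x g z : G} (hx : x * x = z) (hz : orderOf z = 2) (hc : Commute g z) :
    g * x * g⁻¹ = x ∨ g * x * g⁻¹ = x⁻¹ := by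
  have h4 := orderOf_four hx hz
  have hz1 : z ≠ 1 := fun e => by rw [e, orderOf_one] at hz; omega
  obtain ⟨i, hi⟩ := h.conj_mem Nat.prime_two (k := 2) h4 (hx ▸ mul_mem (mem_zpowers x) (mem_zpowers x)) hz1 hc
  have hi' : x ^ (i % 4) = g * x * g⁻¹ := by
    rw [← hi, show (4 : ℤ) = (orderOf x : ℤ) by rw [h4]; rfl, zpow_mod_orderOf]
  have h0 := Int.emod_nonneg i (show (4 : ℤ) ≠ 0 by norm_num)
  have h1 := Int.emod_lt_of_pos i (show (0 : ℤ) < 4 by norm_num)
  have hne : ∀ j : ℤ, x ^ (2 * j) ≠ g * x * g⁻¹ := fun j e => by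
    have h2 : orderOf (g * x * g⁻¹) = 4 := by
      rw [← h4]; exact (MulAut.conj g).orderOf_eq x
    have h3 : (g * x * g⁻¹) ^ 2 = 1 := by
      rw [← e, ← zpow_natCast, ← zpow_mul, show 2 * j * ((2 : ℕ) : ℤ) = (orderOf x : ℤ) * j by
        rw [h4]; push_cast; ring, zpow_mul, zpow_natCast, pow_orderOf_eq_one, one_zpow]
    have h4' := orderOf_dvd_of_pow_eq_one h3
    rw [h2] at h4'
    omega
  rcases (show i % 4 = 0 ∨ i % 4 = 1 ∨ i % 4 = 2 ∨ i % 4 = 3 by omega) with e | e | e | e
  · exact absurd (by rw [← hi', e]; rfl) (hne 0)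
  · left; rw [← hi', e, zpow_one]
  · exact absurd (by rw [← hi', e]; rfl) (hne 1)
  · right
    rw [← hi', e, eq_inv_iff_mul_eq_one, ← zpow_add_one]
    have := pow_orderOf_eq_one x
    rw [h4] at this
    rw [show (3 : ℤ) + 1 = ((4 : ℕ) : ℤ) by norm_num, zpow_natCast, this]

/-- Square roots of two different involutions commute, once one of them commutes with the other square. -/
theorem TI.commute (h : TI G) {x y z u : G} (hx : x * x = z) (hy : y * y = u) (hz : orderOf z = 2)
    (hu : orderOf u = 2) (hne : z ≠ u) (hc : Commute y z) : Commute x y := by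
  rcases h.root hx hz hc with e | e
  · exact (mul_inv_eq_iff_eq_mul.1 e).symm
  exfalso
  have e1 : y * x = x⁻¹ * y := mul_inv_eq_iff_eq_mul.1 e
  have hzi : z⁻¹ = z := inv_eq_of_mul_eq_one_right (by rw [← pow_two, ← hz, pow_orderOf_eq_one])
  have hxu : Commute x u := by
    refine (Commute.symm ?_)
    show u * x = x * u
    have e2 : y * x⁻¹ = x * y := by
      calc y * x⁻¹ = x * (x⁻¹ * y) * x⁻¹ := by group
        _ = x * (y * x) * x⁻¹ := by rw [e1]
        _ = x * y := by group
    rw [← hy, mul_assoc, e1, ← mul_assoc, e2, mul_assoc]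
  have e3 : x * y * x⁻¹ = y * z := by
    have e4 : x * y = y * x⁻¹ := by
      calc x * y = x * (y * x) * x⁻¹ := by group
        _ = x * (x⁻¹ * y) * x⁻¹ := by rw [e1]
        _ = y * x⁻¹ := by group
    rw [e4, mul_assoc, ← mul_inv_rev, hx, hzi]
  rcases h.root hy hu hxu with e' | e'
  · rw [e', left_eq_mul] at e3
    rw [e3, orderOf_one] at hz
    omega
  · rw [e'] at e3
    refine hne ?_
    have h5 : y * y * z = 1 := by rw [mul_assoc, ← e3, mul_inv_cancel]
    rw [hy] at h5
    rw [← hzi, inv_eq_of_mul_eq_one_left h5]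

/-- An element of a two-group of order at least four has a power of order four. -/
theorem exists_four {y : G} {k : ℕ} (hy : orderOf y = 2 ^ k) (hk : 2 ≤ k) :
    orderOf (y ^ (2 ^ (k - 2))) = 4 := by
  rw [orderOf_pow' _ (pow_ne_zero _ (by norm_num)), hy, Nat.gcd_eq_right (pow_dvd_pow 2 (by omega)),
    Nat.pow_div (by omega) (by norm_num), show k - (k - 2) = 2 by omega]

end Cfsg.Agent.CyclicTI
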