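import Mathlib
import Cfsg.Agent.Lib.CyclicTI.Basic

/-!
In a Sylow 2-subgroup the squares of elements of order four are central, so every cyclic subgroup of
order at least four is normal; square roots of central involutions lie in the Sylow subgroup.
-/

set_option autoImplicit false
set_option linter.style.haveILetI false

namespace Cfsg.Agent.CyclicTI

open Subgroup

universe u

variable {G : Type u} [Group G] [Finite G]

theorem TI.sq_central (h : TI G) {S : Subgroup G} (hS : IsPGroup 2 S) {x : G} (hxS : x ∈ S)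
    (hx : orderOf x = 4) : ∀ s ∈ S, Commute s (x * x) := by
  classical
  haveI : Fact (Nat.Prime 2) := ⟨Nat.prime_two⟩
  by_contra hcon
  let Φ : Set G := {y | y ∈ S ∧ orderOf y = 4 ∧ ¬ ∀ s ∈ S, Commute s (y * y)}
  obtain ⟨a, haΦ, hmax⟩ := Set.exists_max_image Φ
    (fun y => Nat.card ↥(S ⊓ centralizer ({y * y} : Set G))) (Set.toFinite Φ) ⟨x, hxS, hx, hcon⟩
  obtain ⟨haS, ha4, hanc⟩ := haΦ
  set v := a * a with hv
  have hv2 : orderOf v = 2 := orderOf_sq_four ha4
  set T : Subgroup G := S ⊓ centralizer ({v} : Set G) with hT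
  have hTS : T ≤ S := inf_le_left
  have hTc : ∀ s ∈ T, Commute s v := fun s hs => mem_centralizer_singleton_iff.1 (mem_inf.1 hs).2
  have hTlt : T.subgroupOf S < ⊤ := by
    refine lt_top_iff_ne_top.2 fun e => hanc fun s hs => hTc s ?_
    have : (⟨s, hs⟩ : S) ∈ T.subgroupOf S := e ▸ mem_top _
    exact this
  -- an element outside `T` normalising it, with square in `T`
  obtain ⟨g, hgS, hgT, hg2, hgn⟩ : ∃ g ∈ S, g ∉ T ∧ g * g ∈ T ∧ ∀ t ∈ T, g * t * g⁻¹ ∈ T := by
    haveI := hS.isNilpotent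
    set U := T.subgroupOf S
    set N := normalizer (U : Set S)
    have hUN : U ≤ N := le_normalizer
    obtain ⟨g₀, hg₀N, hg₀U⟩ := SetLike.exists_of_lt (Group.normalizerCondition_of_isNilpotent U hTlt)
    haveI : (U.subgroupOf N).Normal := normal_in_normalizer
    let π := QuotientGroup.mk' (U.subgroupOf N)
    have hne : π ⟨g₀, hg₀N⟩ ≠ 1 := fun e =>
      hg₀U (mem_subgroupOf.1 ((QuotientGroup.eq_one_iff (N := U.subgroupOf N) _).1 e))
    obtain ⟨k, hk⟩ := IsPGroup.iff_orderOf.1 ((hS.to_subgroup N).to_quotient (U.subgroupOf N)) (π ⟨g₀, hg₀N⟩)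
    have hk0 : k ≠ 0 := fun e => hne (orderOf_eq_one_iff.1 (by rw [hk, e, pow_zero]))
    set g₁ : N := ⟨g₀, hg₀N⟩ ^ 2 ^ (k - 1) with hg₁
    have ho : orderOf (π g₁) = 2 := by
      rw [hg₁, map_pow, orderOf_pow' _ (pow_ne_zero _ (by norm_num)), hk,
        Nat.gcd_eq_right (pow_dvd_pow 2 (by omega)), Nat.pow_div (by omega) (by norm_num),
        show k - (k - 1) = 1 by omega, pow_one]
    refine ⟨((g₁ : S) : G), (g₁ : S).2, fun hm => ?_, ?_, fun t ht => ?_⟩
    · have : π g₁ = 1 := (QuotientGroup.eq_one_iff _).2 (show (g₁ : S) ∈ U from hm)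
      rw [this, orderOf_one] at ho
      omega
    · have h2 : π (g₁ * g₁) = 1 := by rw [map_mul, ← pow_two, ← ho, pow_orderOf_eq_one]
      exact mem_subgroupOf.1 (mem_subgroupOf.1 ((QuotientGroup.eq_one_iff (N := U.subgroupOf N) _).1 h2))
    · exact ((mem_normalizer_iff.1 g₁.2) ⟨t, hTS ht⟩).1 ht
  have hgv : ¬ Commute g v := fun e => hgT ⟨hgS, mem_centralizer_singleton_iff.2 e⟩
  -- the conjugate root
  set a' := g * a * g⁻¹ with ha'
  set v' := g * v * g⁻¹ with hv'
  have ha'v : a' * a' = v' := by rw [ha', hv', hv]; group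
  have hv'2 : orderOf v' = 2 := by rw [← hv2]; exact (MulAut.conj g).orderOf_eq v
  have hne : v ≠ v' := fun e => hgv (mul_inv_eq_iff_eq_mul.1 e.symm)
  have haT : a ∈ T := ⟨haS, mem_centralizer_singleton_iff.2 ((Commute.refl a).mul_right (Commute.refl a))⟩
  have ha'T : a' ∈ T := hgn a haT
  have hgg : Commute (g * g) v := hTc _ hg2
  have hgv' : g * v' * g⁻¹ = v := by
    calc g * v' * g⁻¹ = (g * g) * v * (g * g)⁻¹ := by rw [hv']; group
      _ = v := by rw [hgg.eq, mul_inv_cancel_right]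
  have hTv' : ∀ t ∈ T, Commute t v' := fun t ht => by
    have h1 : g * t * g⁻¹ ∈ T := hgn t ht
    have h2 : g * (g * t * g⁻¹) * g⁻¹ = (g * g) * t * (g * g)⁻¹ := by group
    -- pull `t` back into `T`
    have h3 : g⁻¹ * t * g ∈ T := by
      have h4 := hgn _ (mul_mem (mul_mem (inv_mem hg2) ht) hg2)
      rwa [show g * ((g * g)⁻¹ * t * (g * g)) * g⁻¹ = g⁻¹ * t * g by group] at h4
    have h5 := hTc _ h3
    show t * v' = v' * t
    calc t * v' = g * ((g⁻¹ * t * g) * v) * g⁻¹ := by rw [hv']; group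
      _ = g * (v * (g⁻¹ * t * g)) * g⁻¹ := by rw [h5.eq]
      _ = v' * t := by rw [hv']; group
  have hcom : Commute a a' := h.commute rfl ha'v hv2 hv'2 hne (hTc _ ha'T)
  set b := a * a' with hb
  set w := v * v' with hw
  have hbw : b * b = w := by rw [hb, hw, hcom.symm.mul_mul_mul_comm, ha'v]
  have hvv' : Commute v v' := hTv' v ((hv ▸ mul_mem haT haT : v ∈ T))
  have hvi : v⁻¹ = v := inv_eq_of_mul_eq_one_right (by rw [← pow_two, ← hv2, pow_orderOf_eq_one])
  have hv'i : v'⁻¹ = v' := inv_eq_of_mul_eq_one_right (by rw [← pow_two, ← hv'2, pow_orderOf_eq_one])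
  have hw1 : w ≠ 1 := fun e => hne (by rw [← hv'i]; exact eq_inv_of_mul_eq_one_left e)
  have hw2 : orderOf w = 2 := by
    refine orderOf_eq_prime ?_ hw1
    rw [hw, pow_two, hvv'.symm.mul_mul_mul_comm, ← pow_two v, ← pow_two v', ← hv2, pow_orderOf_eq_one,
      hv2, ← hv'2, pow_orderOf_eq_one, one_mul]
  have hb4 : orderOf b = 4 := orderOf_four hbw hw2
  have hgw : Commute g w := mul_inv_eq_iff_eq_mul.1 (show g * w * g⁻¹ = w by
    calc g * w * g⁻¹ = (g * v * g⁻¹) * (g * v' * g⁻¹) := by rw [hw]; group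
      _ = v' * v := by rw [← hv', hgv']
      _ = w := hvv'.eq.symm)
  have hbS : b ∈ S := mul_mem haS (hTS ha'T)
  have hwc : ∀ s ∈ S, Commute s w := by
    by_contra hn
    have hle := hmax b ⟨hbS, hb4, by rwa [hbw]⟩
    rw [hbw] at hle
    refine absurd hle (not_le.2 (lt_of_le_of_ne (Subgroup.card_le_of_le fun t ht =>
      ⟨hTS ht, mem_centralizer_singleton_iff.2 ((hTc t ht).mul_right (hTv' t ht))⟩) fun e => ?_))
    have hgm : g ∈ S ⊓ centralizer ({w} : Set G) := ⟨hgS, mem_centralizer_singleton_iff.2 hgw⟩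
    rw [← eq_of_le_of_card_ge (fun t ht =>
      (⟨hTS ht, mem_centralizer_singleton_iff.2 ((hTc t ht).mul_right (hTv' t ht))⟩ :
        t ∈ S ⊓ centralizer ({w} : Set G))) e.ge] at hgm
    exact hgT hgm
  -- `g * g` centralises the root
  have hga : g * a' * g⁻¹ = a := by
    have h1 : g * a' * g⁻¹ = (g * g) * a * (g * g)⁻¹ := by rw [ha']; group
    rcases h.root (show a * a = v from rfl) hv2 hgg with e | e
    · rw [h1, e]
    exfalso
    have h2 : g * b * g⁻¹ = a' * a⁻¹ := by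
      calc g * b * g⁻¹ = (g * a * g⁻¹) * (g * a' * g⁻¹) := by rw [hb]; group
        _ = a' * a⁻¹ := by rw [h1, e]
    rcases h.root hbw hw2 hgw with f | f
    · rw [h2, hb, hcom.eq] at f
      have : a * a = 1 := by rw [mul_left_cancel_iff] at f; exact inv_eq_iff_mul_eq_one.1 f
      rw [← hv] at this
      rw [this, orderOf_one] at hv2
      omega
    · rw [h2, hb, mul_inv_rev] at f
      have : a' * a' = 1 := eq_inv_iff_mul_eq_one.1 (mul_right_cancel f)
      rw [ha'v] at this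
      rw [this, orderOf_one] at hv'2
      omega
  have hgb : Commute g b := mul_inv_eq_iff_eq_mul.1 (show g * b * g⁻¹ = b by
    calc g * b * g⁻¹ = (g * a * g⁻¹) * (g * a' * g⁻¹) := by rw [hb]; group
      _ = a' * a := by rw [← ha', hga]
      _ = b := hcom.eq.symm)
  -- an element of order at least four in the coset
  obtain ⟨y, hyS, hy2, hy1, hya, hyy⟩ : ∃ y ∈ S, y * y ∈ T ∧ y * y ≠ 1 ∧ y * a * y⁻¹ = a' ∧
      Commute (y * y) a := by
    have hgga : Commute (g * g) a := mul_inv_eq_iff_eq_mul.1 (show (g * g) * a * (g * g)⁻¹ = a by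
      calc (g * g) * a * (g * g)⁻¹ = g * a' * g⁻¹ := by rw [ha']; group
        _ = a := hga)
    by_cases h1 : g * g = 1
    · refine ⟨g * b, mul_mem hgS hbS, ?_, ?_, ?_, ?_⟩
      all_goals
        have e : g * b * (g * b) = w := by rw [hgb.symm.mul_mul_mul_comm g b, h1, hbw, one_mul]
      · rw [e]; exact mul_mem (hv ▸ mul_mem haT haT) (ha'v ▸ mul_mem ha'T ha'T)
      · rw [e]; exact hw1
      · have hba : Commute b a := ((Commute.refl a).mul_left hcom.symm)
        calc g * b * a * (g * b)⁻¹ = g * (b * a * b⁻¹) * g⁻¹ := by group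
          _ = a' := by rw [hba.eq, mul_inv_cancel_right]
      · rw [e]; exact (hwc a haS).symm
    · exact ⟨g, hgS, hg2, h1, ha'.symm, hgga⟩
  obtain ⟨k, hk⟩ := IsPGroup.iff_orderOf.1 hS ⟨y, hyS⟩
  have hky : orderOf y = 2 ^ k := by rw [← hk, Subgroup.orderOf_mk]
  have hk2 : 2 ≤ k := by
    by_contra hk2
    apply hy1
    rw [← pow_two, ← orderOf_dvd_iff_pow_eq_one, hky]
    rcases (show k = 0 ∨ k = 1 by omega) with rfl | rfl <;> norm_num
  set z₀ := y ^ 2 ^ (k - 1) with hz₀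
  have hz₀1 : z₀ ≠ 1 := fun e => by
    have h1 := Nat.le_of_dvd (by positivity) (hky ▸ orderOf_dvd_of_pow_eq_one e)
    have := Nat.pow_lt_pow_right (show 1 < 2 by norm_num) (show k - 1 < k by omega)
    omega
  have hz₀a : Commute a z₀ := by
    rw [hz₀, show 2 ^ (k - 1) = 2 * 2 ^ (k - 2) by
      rw [← pow_succ', show k - 2 + 1 = k - 1 by omega], pow_mul, pow_two]
    exact hyy.symm.pow_right _
  have hr : a * a'⁻¹ ∈ zpowers y := by
    have h1 := h.conj_mem Nat.prime_two hky (pow_mem (mem_zpowers y) _) hz₀1 hz₀a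
    have h2 := mul_mem h1 (inv_mem (mem_zpowers y))
    rwa [← hya, show a * (y * a * y⁻¹)⁻¹ = a * y * a⁻¹ * y⁻¹ by group]
  obtain ⟨m, hm⟩ := hr
  have hyr : y * (a * a'⁻¹) * y⁻¹ = a * a'⁻¹ := by rw [← hm]; group
  have hyr' : y * (a * a'⁻¹) * y⁻¹ = a' * a⁻¹ := by
    have h1 : y * a' * y⁻¹ = a := by
      rw [← hya]
      calc y * (y * a * y⁻¹) * y⁻¹ = (y * y) * a * (y * y)⁻¹ := by group
        _ = a := by rw [hyy.eq, mul_inv_cancel_right]
    calc y * (a * a'⁻¹) * y⁻¹ = (y * a * y⁻¹) * (y * a' * y⁻¹)⁻¹ := by group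
      _ = a' * a⁻¹ := by rw [hya, h1]
  rw [hyr] at hyr'
  have h3 : v = v' := by
    have h4 : a * a'⁻¹ * (a * a'⁻¹) = 1 := by
      conv_lhs => arg 2; rw [hyr']
      group
    rw [hcom.inv_right.symm.mul_mul_mul_comm, ← mul_inv_rev, ha'v, ← hv, hv'i, ← hw] at h4
    exact absurd h4 hw1
  exact hne h3

/-- Every cyclic subgroup of order at least four of a two-group is normal in it. -/
theorem TI.conj_mem_two (h : TI G) {S : Subgroup G} (hS : IsPGroup 2 S) {y s : G} (hy : y ∈ S) (hs : s ∈ S)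
    (h4 : ¬ y ^ 2 = 1) : s * y * s⁻¹ ∈ zpowers y := by
  haveI : Fact (Nat.Prime 2) := ⟨Nat.prime_two⟩
  obtain ⟨k, hk⟩ := IsPGroup.iff_orderOf.1 hS ⟨y, hy⟩
  have hky : orderOf y = 2 ^ k := by rw [← hk, Subgroup.orderOf_mk]
  have hk2 : 2 ≤ k := by
    by_contra hk2
    apply h4
    rw [← orderOf_dvd_iff_pow_eq_one, hky]
    rcases (show k = 0 ∨ k = 1 by omega) with rfl | rfl <;> norm_num
  have h4' := exists_four hky hk2
  have h2 := orderOf_sq_four h4'
  exact h.conj_mem Nat.prime_two hky (mul_mem (pow_mem (mem_zpowers y) _) (pow_mem (mem_zpowers y) _))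
    (fun e => by rw [e, orderOf_one] at h2; omega) (h.sq_central hS (pow_mem hy _) h4' s hs)

/-- A square root of an involution central in a Sylow subgroup lies in it. -/
theorem TI.root_mem (h : TI G) (S : Sylow 2 G) {z x : G} (hz : orderOf z = 2)
    (hc : ∀ s ∈ S, Commute s z) (hx : x * x = z) : x ∈ S := by
  haveI : Fact (Nat.Prime 2) := ⟨Nat.prime_two⟩
  have h4 := orderOf_four hx hz
  have hn : (S : Subgroup G) ≤ normalizer ((zpowers x : Subgroup G) : Set G) := fun s hs => by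
    refine mem_normalizer_iff.2 fun y => ?_
    have key : ∀ s ∈ S, ∀ y ∈ zpowers x, s * y * s⁻¹ ∈ zpowers x := by
      rintro s hs y ⟨m, rfl⟩
      have h1 : s * x * s⁻¹ ∈ zpowers x := by
        rcases h.root hx hz (hc s hs) with e | e <;> rw [e]
        exacts [mem_zpowers x, inv_mem (mem_zpowers x)]
      have := zpow_mem h1 m
      rwa [conj_zpow] at this
    refine ⟨key s hs y, fun hy => ?_⟩
    have := key s⁻¹ (inv_mem hs) _ hy
    rwa [show s⁻¹ * (s * y * s⁻¹) * s⁻¹⁻¹ = y by group] at this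
  have hp : IsPGroup 2 ↥((S : Subgroup G) ⊔ zpowers x) :=
    S.isPGroup'.to_sup_of_normal_right'
      (IsPGroup.of_card (n := 2) (by rw [Nat.card_zpowers, h4]; norm_num)) hn
  have := S.is_maximal' hp le_sup_left
  exact this.le (mem_sup_right (mem_zpowers x))

end Cfsg.Agent.CyclicTI
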