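import Cfsg.Agent.Lib.Forms.SolubilizerPSL2.Basic
import Cfsg.Agent.Lib.Forms.SolubilizerPSL2.Inst
import Cfsg.Agent.Recognition.PSL2Spectrum
import Cfsg.Agent.Lib.J1.Spectrum
import Cfsg.Prelude.Def_Spor_J1

/-!
# The models with all cyclic prime power subgroups TI

In `PSL₂(F)` an element of prime power but not prime order is semisimple, so it is pinned by the two
points fixed by any non-trivial power; in `J₁` all prime power orders are primes.
-/

set_option autoImplicit false
set_option linter.style.haveILetI false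
set_option linter.unusedSectionVars false

namespace Cfsg.Agent.CyclicTI

open Subgroup MulAction

universe u

variable {G : Type u} [Group G] [Finite G]

/-- The condition. -/
def AllTI (G : Type*) [Group G] : Prop :=
  ∀ H : Subgroup G, IsCyclic H → IsPrimePow (Nat.card H) →
    (∀ g : G, (H).map (MulAut.conj g).toMonoidHom = H ∨ (H).map (MulAut.conj g).toMonoidHom ⊓ H = ⊥)

/-- It suffices to look at two elements of one prime power order sharing an element of prime order. -/
theorem allTI_of_pair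
    (hpair : ∀ (l k : ℕ) (x y z : G), l.Prime → 2 ≤ k → orderOf x = l ^ k → orderOf y = l ^ k →
      orderOf z = l → z ∈ zpowers x → z ∈ zpowers y → zpowers x = zpowers y) : AllTI G := by
  intro H hc hpp g
  set H' := H.map (MulAut.conj g).toMonoidHom with hH'
  by_cases hbot : H' ⊓ H = ⊥
  · exact Or.inr hbot
  left
  obtain ⟨l, k, hl, hk, hcard⟩ := (isPrimePow_nat_iff _).1 hpp
  haveI : Fact l.Prime := ⟨hl⟩
  have hcard' : Nat.card H' = Nat.card H := card_map_of_injective (MulAut.conj g).injective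
  have hpI : IsPGroup l ↥(H' ⊓ H) := (IsPGroup.of_card hcard.symm).to_le inf_le_right
  obtain ⟨j, hj⟩ := IsPGroup.iff_card.1 hpI
  have hj0 : j ≠ 0 := fun h0 => hbot (Subgroup.card_eq_one.1 (by rw [hj, h0, pow_zero]))
  obtain ⟨⟨z, hz'⟩, hzo⟩ := exists_prime_orderOf_dvd_card' (G := ↥(H' ⊓ H)) l
    (hj ▸ dvd_pow_self l hj0)
  rw [← Subgroup.orderOf_coe] at hzo
  change orderOf z = l at hzo
  obtain ⟨hzH', hzH⟩ := mem_inf.1 hz'
  obtain ⟨⟨x, hxH⟩, hx⟩ := hc.exists_generator
  have hHx : H = zpowers x := le_antisymm (fun h hh => by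
    obtain ⟨i, hi⟩ := mem_zpowers_iff.1 (hx ⟨h, hh⟩)
    exact mem_zpowers_iff.2 ⟨i, by simpa using congrArg Subtype.val hi⟩) (zpowers_le.2 hxH)
  rcases Nat.lt_or_ge k 2 with hk1 | hk2
  · obtain rfl : k = 1 := by omega
    rw [pow_one] at hcard
    have e : ∀ A : Subgroup G, Nat.card A = l → z ∈ A → zpowers z = A := fun A hA hzA =>
      eq_of_le_of_card_ge (zpowers_le.2 hzA) (by rw [hA, Nat.card_zpowers, hzo])
    rw [← e H' (hcard'.trans hcard.symm) hzH', ← e H hcard.symm hzH]
  have hxo : orderOf x = l ^ k := by rw [← Nat.card_zpowers, ← hHx, hcard]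
  set y := g * x * g⁻¹ with hy
  have hHy : H' = zpowers y := by rw [hH', hHx, MonoidHom.map_zpowers]; rfl
  have hyo : orderOf y = l ^ k := by rw [← Nat.card_zpowers, ← hHy, hcard', hcard]
  rw [hHy, hHx]
  exact hpair l k y x z hl hk2 hyo hxo hzo (hHy ▸ hzH') (hHx ▸ hzH)

/-- The condition passes along isomorphisms. -/
theorem allTI_congr {G : Type*} [Group G] {H : Type*} [Group H] (e : G ≃* H) (h : AllTI H) : AllTI G := by
  intro A hA hpp g
  set B := A.map e.toMonoidHom with hB
  have hBc : IsCyclic B := isCyclic_of_surjective (e.toMonoidHom.subgroupMap A)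
    (e.toMonoidHom.subgroupMap_surjective A)
  have hcard : Nat.card B = Nat.card A := card_map_of_injective e.injective
  have hconj : B.map (MulAut.conj (e g)).toMonoidHom =
      (A.map (MulAut.conj g).toMonoidHom).map e.toMonoidHom := by
    rw [hB, Subgroup.map_map, Subgroup.map_map]
    congr 1
    ext a
    simp
  rcases h B hBc (hcard.symm ▸ hpp) (e g) with h1 | h1
  · rw [hconj] at h1
    exact Or.inl (map_injective e.injective h1)
  · rw [hconj, hB, ← Subgroup.map_inf _ _ _ e.injective] at h1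
    exact Or.inr ((map_eq_bot_iff_of_injective _ e.injective).1 h1)

/-- `PSL₂` of a finite field. -/
theorem allTI_psl {F : Type} [Field F] [Fintype F] :
    AllTI (Matrix.ProjectiveSpecialLinearGroup (Fin 2) F) := by
  obtain ⟨p, hchar⟩ := CharP.exists F
  obtain ⟨n, hp, hq⟩ := FiniteField.card F p
  haveI := hchar
  haveI : Fact p.Prime := ⟨hp⟩
  have hT := Forms.DicksonAction.twoPt (F := F) p
  refine allTI_of_pair fun l k x y z hl hk hxo hyo hzo hzx hzy => ?_
  have hlk : l * l ∣ l ^ k := by rw [← pow_two]; exact pow_dvd_pow l hk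
  have hnot : ¬ l * l ∣ p := fun h1 => by
    rcases (Nat.dvd_prime hp).1 h1 with h2 | h2
    · exact absurd h2 (by have := hl.two_le; nlinarith)
    · exact Nat.not_prime_mul hl.ne_one hl.ne_one (h2 ▸ hp)
  have hlp : l ≠ p := by
    intro hlp
    have h1 : ∀ m, Recognition.PSL2Spectrum.half p m ∣ m → l ^ k ∣ Recognition.PSL2Spectrum.half p m →
        l ∣ m := fun m h1 h2 => ((dvd_mul_right l l).trans hlk).trans (h2.trans h1)
    have hhalf : ∀ m, (p ≠ 2 → 2 ∣ m) → Recognition.PSL2Spectrum.half p m ∣ m := fun m hm => by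
      rw [Recognition.PSL2Spectrum.half]
      split_ifs with h2
      · exact dvd_rfl
      · exact Nat.div_dvd_of_dvd (hm h2)
    have hpq : p ∣ p ^ (n : ℕ) := dvd_pow_self p n.pos.ne'
    rcases Recognition.PSL2Spectrum.orderOf_cases hq n.pos x with h2 | h2 | h2 <;> rw [hxo] at h2
    · have h3 := h1 _ (hhalf _ (Recognition.PSL2Spectrum.hm_sub hq n.pos)) h2
      rw [hlp] at h3
      have h4 : 1 ≤ p ^ (n : ℕ) := Nat.one_le_pow _ _ hp.pos
      have h5 := Nat.dvd_sub hpq h3
      rw [Nat.sub_sub_self h4] at h5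
      exact hp.not_dvd_one h5
    · have h3 := h1 _ (hhalf _ (Recognition.PSL2Spectrum.hm_add hq n.pos)) h2
      rw [hlp] at h3
      exact hp.not_dvd_one ((Nat.dvd_add_right hpq).1 h3)
    · exact hnot (hlk.trans h2)
  have hz1 : z ≠ 1 := fun h1 => by rw [h1, orderOf_one] at hzo; exact hl.one_lt.ne hzo
  obtain ⟨a, b, hab, hfix⟩ := hT.exists_pair hz1 (by rw [hzo]; exact hlp)
  have hza : z • a = a := by
    show a ∈ fixedBy _ z
    rw [hfix]; simp
  have hzb : z • b = b := by
    show b ∈ fixedBy _ z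
    rw [hfix]; simp
  have hmem : ∀ w, orderOf w = l ^ k → z ∈ zpowers w →
      w ∈ Forms.SolubilizerPSL2.ptw a b := by
    intro w hwo hzw
    obtain ⟨i, hi⟩ := mem_zpowers_iff.1 hzw
    have hc : Commute z w := hi ▸ (Commute.refl w).zpow_left i
    rcases Forms.SolubilizerPSL2.commute_fix hT hz1 hab hza hzb hc with h1 | ⟨h1, h2⟩
    · exact Forms.SolubilizerPSL2.mem_ptw.2 h1
    exfalso
    have h3 : orderOf w ∣ 2 := orderOf_dvd_of_pow_eq_one (by
      rw [pow_two]; exact Forms.SolubilizerPSL2.swap_sq hT hab h1 h2)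
    have h4 := Nat.le_of_dvd two_pos ((hlk.trans (hwo ▸ h3)))
    have := hl.two_le
    nlinarith
  have hx := hmem x hxo hzx
  have hy := hmem y hyo hzy
  haveI := Forms.SolubilizerPSL2.isCyclic_ptw hT hab
  refine eq_of_le_of_card_ge (zpowers_le.2 ?_) (by rw [Nat.card_zpowers, Nat.card_zpowers, hxo, hyo])
  -- a cyclic group has one subgroup of each order
  set T := Forms.SolubilizerPSL2.ptw (G := Matrix.ProjectiveSpecialLinearGroup (Fin 2) F) a b
  have hroot : ∀ u : T, u ^ orderOf (⟨y, hy⟩ : T) = 1 → u ∈ zpowers (⟨y, hy⟩ : T) := by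
    intro u hu
    classical
    haveI := Fintype.ofFinite T
    set d := orderOf (⟨y, hy⟩ : T) with hd
    have hle : (Finset.univ.filter fun v : T => v ^ d = 1).card ≤ d := IsCyclic.card_pow_eq_one_le (orderOf_pos _)
    set Z := Finset.univ.filter fun v : T => v ∈ zpowers (⟨y, hy⟩ : T) with hZ
    have hZcard : Z.card = d := by
      rw [hd, ← Nat.card_zpowers, Nat.card_eq_fintype_card, Fintype.card_subtype]
    have hZsub : Z ⊆ Finset.univ.filter fun v : T => v ^ d = 1 := fun v hv => by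
      rw [Finset.mem_filter] at hv ⊢
      exact ⟨hv.1, orderOf_dvd_iff_pow_eq_one.1 (Subgroup.orderOf_dvd_natCard _ hv.2 |>.trans
        (by rw [Nat.card_zpowers]))⟩
    have heq := Finset.eq_of_subset_of_card_le hZsub (hZcard ▸ hle)
    exact (Finset.mem_filter.1 (heq.symm.subset
      (Finset.mem_filter.2 ⟨Finset.mem_univ u, hu⟩))).2
  have h1 := hroot ⟨x, hx⟩ (Subtype.ext (by
    rw [SubgroupClass.coe_pow, ← Subgroup.orderOf_coe]
    show x ^ orderOf y = 1
    rw [hyo, ← hxo, pow_orderOf_eq_one]))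
  obtain ⟨i, hi⟩ := mem_zpowers_iff.1 h1
  exact mem_zpowers_iff.2 ⟨i, by simpa using congrArg Subtype.val hi⟩

/-- `J₁`. -/
theorem allTI_J1 : AllTI Cfsg.Spor.J1 := by
  refine allTI_of_pair fun l k x y z hl hk hxo _ _ _ _ => ?_
  exfalso
  have h1 : orderOf x ∈ Set.range (orderOf : Cfsg.Spor.J1 → ℕ) := ⟨x, rfl⟩
  rw [Lib.J1.Spectrum.range_orderOf, hxo] at h1
  have hl2 : l * l ∣ l ^ k := by rw [← pow_two]; exact pow_dvd_pow l hk
  have hle : l * l ≤ l ^ k := Nat.le_of_dvd (pow_pos hl.pos k) hl2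
  simp only [Set.mem_insert_iff, Set.mem_singleton_iff] at h1
  have hl19 : l ≤ 4 := by
    have : l ^ k ≤ 19 := by rcases h1 with h|h|h|h|h|h|h|h|h|h <;> omega
    nlinarith
  have := hl.two_le
  interval_cases l <;> rcases h1 with h|h|h|h|h|h|h|h|h|h <;> rw [h] at hl2 <;>
    exact absurd hl2 (by decide)

/-- **The converse half of S3411.** -/
theorem ti_of_models
    (h : (∃ (F : Type) (_ : Field F) (_ : Fintype F), 3 < Fintype.card F ∧
      Nonempty (G ≃* Matrix.ProjectiveSpecialLinearGroup (Fin 2) F)) ∨ Cfsg.Spor.IsoJ1 G) :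
    AllTI G := by
  rcases h with ⟨F, iF, iF', -, ⟨e⟩⟩ | ⟨⟨e⟩⟩
  · exact allTI_congr e allTI_psl
  · exact allTI_congr e allTI_J1

end Cfsg.Agent.CyclicTI
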