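import Mathlib

/-!
A two-group with a subgroup of index two outside which all elements are involutions.
-/

set_option autoImplicit false
set_option linter.style.haveILetI false

namespace Cfsg.Agent.CyclicTI

open Subgroup

universe u

variable {G : Type u} [Group G]

/-- The elements of `S` outside `C` are involutions, and `C` has index two in `S`. -/
structure Dih (S C : Subgroup G) : Prop where
  le : C ≤ S
  ne : ∃ s ∈ S, s ∉ C
  mul_mem' : ∀ a ∈ S, a ∉ C → ∀ b ∈ S, b ∉ C → a * b ∈ C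
  sq : ∀ a ∈ S, a ∉ C → a * a = 1

namespace Dih

variable {S C : Subgroup G} (D : Dih S C)
include D

theorem inverts {a c : G} (ha : a ∈ S) (haC : a ∉ C) (hc : c ∈ C) : a * c * a⁻¹ = c⁻¹ := by
  have h1 : a * c ∉ C := fun h => haC (by simpa using mul_mem h (inv_mem hc))
  have h2 := D.sq _ (mul_mem ha (D.le hc)) h1
  rw [inv_eq_of_mul_eq_one_right (D.sq a ha haC)]
  exact eq_inv_of_mul_eq_one_left (by rw [mul_assoc (a * c)]; exact h2)

theorem comm {a b : G} (ha : a ∈ C) (hb : b ∈ C) : Commute a b := by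
  obtain ⟨s, hs, hsC⟩ := D.ne
  have h := D.inverts hs hsC (mul_mem ha hb)
  have h2 : s * (a * b) * s⁻¹ = a⁻¹ * b⁻¹ := by
    rw [← D.inverts hs hsC ha, ← D.inverts hs hsC hb]; group
  rw [h2] at h
  have := congrArg (·⁻¹) h
  simp only [mul_inv_rev, inv_inv] at this
  exact this.symm

theorem involution_central {c : G} (hc : c ∈ C) (h2 : c * c = 1) : ∀ a ∈ S, Commute a c := fun a ha => by
  by_cases haC : a ∈ C
  · exact D.comm haC hc
  · have h := D.inverts ha haC hc
    rw [inv_eq_of_mul_eq_one_right h2] at h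
    exact mul_inv_eq_iff_eq_mul.1 h

theorem relIndex_two : C.relIndex S = 2 := by
  obtain ⟨s, hs, hsC⟩ := D.ne
  refine Subgroup.index_eq_two_iff.2 ⟨⟨s, hs⟩, fun b => ?_⟩
  by_cases hb : (b : G) ∈ C
  · refine Or.inr ⟨hb, fun h => hsC ?_⟩
    have := mul_mem (inv_mem hb) (show (b : G) * s ∈ C from h)
    rwa [inv_mul_cancel_left] at this
  · exact Or.inl ⟨D.mul_mem' _ b.2 hb _ hs hsC, hb⟩

/-- The centraliser in `S` of an element outside `C` is elementary abelian. -/
theorem centralizer_sq {s a : G} (hs : s ∈ S) (hsC : s ∉ C) (ha : a ∈ S ⊓ centralizer ({s} : Set G)) :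
    a * a = 1 := by
  rw [mem_inf, mem_centralizer_singleton_iff] at ha
  by_cases haC : a ∈ C
  · have h := D.inverts hs hsC haC
    rw [← ha.2, mul_inv_cancel_right] at h
    exact eq_inv_iff_mul_eq_one.1 h
  · exact D.sq a ha.1 haC

theorem centralizer_comm {s a b : G} (hs : s ∈ S) (hsC : s ∉ C) (ha : a ∈ S ⊓ centralizer ({s} : Set G))
    (hb : b ∈ S ⊓ centralizer ({s} : Set G)) : Commute a b := by
  have h1 := inv_eq_of_mul_eq_one_right (D.centralizer_sq hs hsC (mul_mem ha hb))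
  rw [mul_inv_rev, inv_eq_of_mul_eq_one_right (D.centralizer_sq hs hsC ha),
    inv_eq_of_mul_eq_one_right (D.centralizer_sq hs hsC hb)] at h1
  exact h1.symm

/-- The involutions of `C`, with the identity. -/
def omega : Subgroup G where
  carrier := {c | c ∈ C ∧ c * c = 1}
  one_mem' := ⟨one_mem _, one_mul 1⟩
  mul_mem' := fun {a b} ha hb => ⟨mul_mem ha.1 hb.1, by
    rw [(D.comm hb.1 ha.1).mul_mul_mul_comm a b, ha.2, hb.2, one_mul]⟩
  inv_mem' := fun {a} ha => ⟨inv_mem ha.1, by rw [← mul_inv_rev, ha.2, inv_one]⟩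

theorem card_centralizer [Finite G] {s : G} (hs : s ∈ S) (hsC : s ∉ C) :
    Nat.card ↥(S ⊓ centralizer ({s} : Set G)) = 2 * Nat.card D.omega := by
  have hle : D.omega ≤ S ⊓ centralizer ({s} : Set G) := fun c hc =>
    ⟨D.le hc.1, mem_centralizer_singleton_iff.2 (D.involution_central hc.1 hc.2 s hs).symm⟩
  have h2 : D.omega.relIndex (S ⊓ centralizer ({s} : Set G)) = 2 := by
    refine Subgroup.index_eq_two_iff.2 ⟨⟨s, hs, mem_centralizer_singleton_iff.2 rfl⟩, fun b => ?_⟩
    by_cases hb : (b : G) ∈ C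
    · refine Or.inr ⟨⟨hb, D.centralizer_sq hs hsC b.2⟩, fun h => hsC ?_⟩
      have := mul_mem (inv_mem hb) (show (b : G) * s ∈ C from h.1)
      rwa [inv_mul_cancel_left] at this
    · exact Or.inl ⟨⟨D.mul_mem' _ b.2.1 hb _ hs hsC, D.centralizer_sq hs hsC
        (mul_mem b.2 ⟨hs, mem_centralizer_singleton_iff.2 rfl⟩)⟩, fun h => hb h.1⟩
  rw [← Subgroup.relIndex_bot_left, ← Subgroup.relIndex_mul_relIndex ⊥ D.omega _ bot_le hle, h2,
    Subgroup.relIndex_bot_left, mul_comm]

end Dih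

end Cfsg.Agent.CyclicTI
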