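import Mathlib
import Cfsg.Agent.Lib.CyclicTI.Central
import Cfsg.Agent.Lib.CyclicTI.Shape
import Cfsg.Agent.Lib.AltCent.Transfer

/-!
In a nonabelian Sylow 2-subgroup all elements of order four have the same square.
-/

set_option autoImplicit false
set_option linter.style.haveILetI false

namespace Cfsg.Agent.CyclicTI

open Subgroup

universe u

variable {G : Type u} [Group G]

theorem TI.commute_of_commute (h : TI G) {a b g z v : G} (ha : a * a = z) (hb : b * b = v) (hz : orderOf z = 2)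
    (hv : orderOf v = 2) (hne : z ≠ v) (hab : Commute a b) (hgz : Commute g z) (hgv : Commute g v)
    (hga : Commute g a) : Commute g b := by
  rcases h.root hb hv hgv with e | e
  · exact mul_inv_eq_iff_eq_mul.1 e
  exfalso
  have hzi : z * z = 1 := by rw [← pow_two, ← hz, pow_orderOf_eq_one]
  have hvi : v * v = 1 := by rw [← pow_two, ← hv, pow_orderOf_eq_one]
  have hzv : Commute z v := by
    rw [← ha, ← hb]; exact (hab.mul_right hab).mul_left (hab.mul_right hab)
  have hw : (a * b) * (a * b) = z * v := by rw [hab.symm.mul_mul_mul_comm a b, ha, hb]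
  have hw2 : orderOf (z * v) = 2 := by
    refine orderOf_eq_prime (by rw [pow_two, hzv.symm.mul_mul_mul_comm z v, hzi, hvi, one_mul]) fun e1 => hne ?_
    rw [eq_inv_of_mul_eq_one_left e1, inv_eq_of_mul_eq_one_right hvi]
  have e2 : g * (a * b) * g⁻¹ = a * b⁻¹ := by
    rw [← conj_mul, hga.eq, mul_inv_cancel_right, e]
  rcases h.root hw hw2 (hgz.mul_right hgv) with f | f
  · rw [e2, mul_left_cancel_iff, inv_eq_iff_mul_eq_one, hb] at f
    rw [f, orderOf_one] at hv; omega
  · rw [e2, hab.eq, mul_inv_rev] at f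
    have : a * a = 1 := eq_inv_iff_mul_eq_one.1 (mul_right_cancel f)
    rw [ha] at this
    rw [this, orderOf_one] at hz; omega

theorem TI.commute_iff (h : TI G) {a b g z v : G} (ha : a * a = z) (hb : b * b = v) (hz : orderOf z = 2)
    (hv : orderOf v = 2) (hne : z ≠ v) (hab : Commute a b) (hgz : Commute g z) (hgv : Commute g v) :
    Commute g a ↔ Commute g b :=
  ⟨h.commute_of_commute ha hb hz hv hne hab hgz hgv,
    h.commute_of_commute hb ha hv hz hne.symm hab.symm hgv hgz⟩

/-- A two-group in which the elements of order at most four are central and all cyclic subgroups of larger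
order are normal is abelian. -/
theorem comm_of_central_low {S : Subgroup G} (hS : IsPGroup 2 S)
    (hlow : ∀ a ∈ S, a ^ 4 = 1 → ∀ b ∈ S, Commute b a)
    (hn : ∀ a ∈ S, ∀ b ∈ S, ¬ a ^ 2 = 1 → b * a * b⁻¹ ∈ zpowers a) :
    ∀ a ∈ S, ∀ b ∈ S, Commute a b := by
  haveI : Fact (Nat.Prime 2) := ⟨Nat.prime_two⟩
  suffices key : ∀ N : ℕ, ∀ a ∈ S, ∀ b ∈ S, orderOf a + orderOf b ≤ N → orderOf b ≤ orderOf a → Commute a b by
    intro a ha b hb
    rcases le_total (orderOf b) (orderOf a) with e | e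
    · exact key _ a ha b hb le_rfl e
    · exact (key _ b hb a ha le_rfl e).symm
  intro N
  induction N using Nat.strong_induction_on with
  | _ N ih =>
  intro a ha b hb hN hle
  have ih' : ∀ a' ∈ S, ∀ b' ∈ S, orderOf a' + orderOf b' < orderOf a + orderOf b → Commute a' b' := by
    intro a' ha' b' hb' hlt
    rcases le_total (orderOf b') (orderOf a') with e | e
    · exact ih _ (lt_of_lt_of_le hlt hN) a' ha' b' hb' le_rfl e
    · exact (ih _ (lt_of_lt_of_le hlt hN) b' hb' a' ha' (by omega) e).symm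
  obtain ⟨n, hn'⟩ := IsPGroup.iff_orderOf.1 hS ⟨b, hb⟩
  obtain ⟨m, hm'⟩ := IsPGroup.iff_orderOf.1 hS ⟨a, ha⟩
  have hbn : orderOf b = 2 ^ n := by rw [← hn', Subgroup.orderOf_mk]
  have ham : orderOf a = 2 ^ m := by rw [← hm', Subgroup.orderOf_mk]
  by_cases hn3 : n ≤ 2
  · exact hlow b hb (orderOf_dvd_iff_pow_eq_one.1 (by
      rw [hbn, show (4 : ℕ) = 2 ^ 2 by norm_num]; exact pow_dvd_pow 2 hn3)) a ha
  push Not at hn3
  have hnm : n ≤ m := (Nat.pow_le_pow_iff_right (by norm_num)).1 (hbn ▸ ham ▸ hle)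
  by_contra hab
  set c := a * b * a⁻¹ * b⁻¹ with hc
  have hc1 : c ≠ 1 := fun e => hab (by
    rw [hc, mul_inv_eq_one, mul_inv_eq_iff_eq_mul] at e
    exact e)
  have hsq : ∀ y : G, ∀ k : ℕ, orderOf y = 2 ^ k → 2 ≤ k → ¬ y ^ 2 = 1 := fun y k hy hk e => by
    have h1 := Nat.le_of_dvd (by norm_num) (hy ▸ orderOf_dvd_of_pow_eq_one e)
    have := Nat.pow_le_pow_right (show 0 < 2 by norm_num) hk
    omega
  have hca : c ∈ zpowers a := by
    rw [hc, show a * b * a⁻¹ * b⁻¹ = a * (b * a⁻¹ * b⁻¹) by group]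
    refine mul_mem (mem_zpowers a) ?_
    rw [← conj_inv]
    exact inv_mem (hn a ha b hb (hsq a m ham (by omega)))
  have hcb : c ∈ zpowers b := mul_mem (hn b hb a ha (hsq b n hbn (by omega))) (inv_mem (mem_zpowers b))
  have hcca : Commute c a := by obtain ⟨i, hi⟩ := hca; rw [← hi]; exact Commute.zpow_self a i
  have ha2 : orderOf (a ^ 2) < orderOf a := by
    rw [orderOf_pow_of_dvd (by norm_num) (ham ▸ dvd_pow_self 2 (by omega)), ham]
    exact Nat.div_lt_self (by positivity) (by norm_num)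
  have hA2 : Commute (a ^ 2) b := ih' _ (pow_mem ha 2) b hb (by omega)
  have hcab : a * b * a⁻¹ = c * b := by rw [hc, inv_mul_cancel_right]
  have hc2 : c * c = 1 := by
    have h1 : a * a * b * (a * a)⁻¹ = b := by rw [← pow_two, hA2.eq, mul_inv_cancel_right]
    have h2 : a * a * b * (a * a)⁻¹ = c * (c * b) :=
      calc a * a * b * (a * a)⁻¹ = a * (a * b * a⁻¹) * a⁻¹ := by group
        _ = a * (c * b) * a⁻¹ := by rw [hcab]
        _ = (a * c * a⁻¹) * (a * b * a⁻¹) := by group
        _ = c * (c * b) := by rw [hcab, hcca.symm.eq, mul_inv_cancel_right]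
    rw [h1, ← mul_assoc] at h2
    exact right_eq_mul.1 h2
  -- the involution of a cyclic group
  have huniq : ∀ y : G, ∀ k : ℕ, orderOf y = 2 ^ k → 1 ≤ k → c ∈ zpowers y → c = y ^ 2 ^ (k - 1) := by
    intro y k hy hk hcy
    obtain ⟨i, hi : y ^ i = c⟩ := hcy
    have h2 : ((2 : ℤ) ^ k) ∣ 2 * i := by
      have : y ^ (2 * i) = 1 := by rw [mul_comm, zpow_mul, hi, zpow_two, hc2]
      have := orderOf_dvd_iff_zpow_eq_one.2 this
      rwa [hy, Nat.cast_pow] at this
    rw [show k = k - 1 + 1 by omega, pow_succ', mul_dvd_mul_iff_left (by norm_num)] at h2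
    obtain ⟨j, rfl⟩ := h2
    rw [← hi, zpow_mul]
    have hp : y ^ ((2 : ℤ) ^ (k - 1)) = y ^ 2 ^ (k - 1) := by
      rw [show ((2 : ℤ) ^ (k - 1)) = ((2 ^ (k - 1) : ℕ) : ℤ) by push_cast; ring, zpow_natCast]
    rw [hp]
    rcases Int.even_or_odd j with ⟨l, rfl⟩ | ⟨l, rfl⟩
    · exfalso
      apply hc1
      rw [← hi, zpow_mul, hp, ← two_mul l, zpow_mul, zpow_two, ← pow_add, ← two_mul,
        ← pow_succ', show k - 1 + 1 = k by omega, ← hy, pow_orderOf_eq_one, one_zpow]
    · rw [zpow_add_one, zpow_mul, zpow_two, ← pow_add, ← two_mul, ← pow_succ',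
        show k - 1 + 1 = k by omega, ← hy, pow_orderOf_eq_one, one_zpow, one_mul]
  have hza := huniq a m ham (by omega) hca
  have hzb := huniq b n hbn (by omega) hcb
  rcases eq_or_lt_of_le hnm with hEq | hlt
  · subst hEq
    -- equal orders
    set e := b * a⁻¹
    have hee : e * e * (e * e) = b ^ 4 * (a ^ 4)⁻¹ := by
      have hca' : Commute c (a ^ 2)⁻¹ := (hcca.pow_right 2).inv_right
      have hcb' : Commute c b := by obtain ⟨i, hi⟩ := hcb; rw [← hi]; exact Commute.zpow_self b i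
      have h1 : a⁻¹ * b = c * b * a⁻¹ := by
        have h0 : b * a = c * a * b := by
          calc b * a = c * (c * (b * a)) := by rw [← mul_assoc c c, hc2, one_mul]
            _ = c * (a * b) := by
              rw [show c * (b * a) = a * b by rw [hc]; group]
            _ = c * a * b := (mul_assoc c a b).symm
        calc a⁻¹ * b = a⁻¹ * (b * a) * a⁻¹ := by group
          _ = (a⁻¹ * c * a) * b * a⁻¹ := by rw [h0]; group
          _ = c * b * a⁻¹ := by rw [mul_assoc a⁻¹ c a, hcca.eq, inv_mul_cancel_left]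
      have h2 : e * e = c * (b ^ 2 * (a ^ 2)⁻¹) := by
        calc e * e = b * (a⁻¹ * b) * a⁻¹ := by simp only [e]; group
          _ = b * (c * b * a⁻¹) * a⁻¹ := by rw [h1]
          _ = (b * c) * b * a⁻¹ * a⁻¹ := by group
          _ = (c * b) * b * a⁻¹ * a⁻¹ := by rw [hcb'.eq]
          _ = c * (b ^ 2 * (a ^ 2)⁻¹) := by rw [pow_two, pow_two, mul_inv_rev]; simp only [mul_assoc]
      have hP : Commute (b ^ 2) (a ^ 2)⁻¹ := (hA2.symm.pow_left 2).inv_right
      rw [h2, Commute.mul_mul_mul_comm (((hcb'.pow_right 2).mul_right hca').symm) c, hc2, one_mul,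
        hP.symm.mul_mul_mul_comm, ← pow_add, ← mul_inv_rev, ← pow_add]
    have hlt : orderOf e ≤ 2 ^ (n - 1) := by
      refine Nat.le_of_dvd (by positivity) (orderOf_dvd_of_pow_eq_one ?_)
      rw [show 2 ^ (n - 1) = 4 * 2 ^ (n - 3) by
        rw [show (4 : ℕ) = 2 ^ 2 by norm_num, ← pow_add]; congr 1; omega]
      have hq : (e ^ 4) = b ^ 4 * (a ^ 4)⁻¹ := by
        rw [← hee, show 4 = 2 + 2 by norm_num, pow_add, pow_two]
      rw [pow_mul, hq, ((((hA2.symm.pow_left 4).pow_right 2).inv_right : Commute (b ^ 4) ((a ^ 2) ^ 2)⁻¹)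
        |> fun h => (show Commute (b ^ 4) (a ^ 4)⁻¹ by rwa [← pow_mul] at h)).mul_pow, inv_pow, ← pow_mul,
        ← pow_mul, show 4 * 2 ^ (n - 3) = 2 ^ (n - 1) by
          rw [show (4 : ℕ) = 2 ^ 2 by norm_num, ← pow_add]; congr 1; omega, ← hza, ← hzb, mul_inv_cancel]
    have h1 : Commute a e := ih' a ha e (mul_mem hb (inv_mem ha)) (by
      have := Nat.pow_lt_pow_right (show 1 < 2 by norm_num) (show n - 1 < n by omega)
      omega)
    refine hab ?_
    have h2 := h1.mul_right (Commute.refl a)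
    rwa [inv_mul_cancel_right] at h2
  · set t := a ^ 2 ^ (m - n)
    have htb : Commute t b := by
      simp only [t]
      rw [show 2 ^ (m - n) = 2 * 2 ^ (m - n - 1) by rw [← pow_succ', show m - n - 1 + 1 = m - n by omega],
        pow_mul]
      exact hA2.pow_left _
    have hlt' : orderOf (b * t⁻¹) ≤ 2 ^ (n - 1) := by
      refine Nat.le_of_dvd (by positivity) (orderOf_dvd_of_pow_eq_one ?_)
      rw [htb.symm.inv_right.mul_pow, inv_pow, ← pow_mul, ← pow_add,
        show m - n + (n - 1) = m - 1 by omega, ← hza, ← hzb, mul_inv_cancel]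
    have h1 : Commute a (b * t⁻¹) := ih' a ha _ (mul_mem hb (inv_mem (pow_mem ha _))) (by
      have := Nat.pow_lt_pow_right (show 1 < 2 by norm_num) (show n - 1 < n by omega)
      omega)
    refine hab ?_
    have h2 := h1.mul_right (show Commute a t from (Commute.refl a).pow_right _)
    rwa [inv_mul_cancel_right] at h2

variable [Finite G]

/-- In a nonabelian Sylow 2-subgroup all elements of order four have the same square. -/
theorem TI.sq_eq (h : TI G) (hno : ∀ H : Subgroup G, H.index ≠ 2) (S : Sylow 2 G)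
    (hnc : ¬ IsMulCommutative (S : Subgroup G)) {x x' : G} (hxS : x ∈ S) (hx : orderOf x = 4)
    (hx'S : x' ∈ S) (hx' : orderOf x' = 4) : x * x = x' * x' := by
  haveI : Fact (Nat.Prime 2) := ⟨Nat.prime_two⟩
  by_contra hne
  set z := x * x with hz
  set v := x' * x' with hv
  have hz2 : orderOf z = 2 := orderOf_sq_four hx
  have hv2 : orderOf v = 2 := orderOf_sq_four hx'
  have hcen : ∀ y ∈ S, orderOf y = 4 → ∀ s ∈ S, Commute s (y * y) := fun y hy hy4 =>
    h.sq_central S.isPGroup' hy hy4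
  have hxx' : Commute x x' := h.commute rfl rfl hz2 hv2 hne (hcen x hxS hx x' hx'S)
  have hunif : ∀ y ∈ S, orderOf y = 4 → ∀ s ∈ S, (Commute s y ↔ Commute s x) := by
    intro y hy hy4 s hs
    by_cases hyz : y * y = z
    · have hyv : y * y ≠ v := fun e => hne (hyz.symm.trans e)
      have hyx' : Commute y x' := h.commute rfl rfl (orderOf_sq_four hy4) hv2 hyv (hcen y hy hy4 x' hx'S)
      exact (h.commute_iff rfl rfl (orderOf_sq_four hy4) hv2 hyv hyx' (hcen y hy hy4 s hs)
        (hcen x' hx'S hx' s hs)).trans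
        (h.commute_iff rfl rfl hv2 hz2 (Ne.symm hne) hxx'.symm (hcen x' hx'S hx' s hs) (hcen x hxS hx s hs))
    · have hyx : Commute y x := h.commute rfl rfl (orderOf_sq_four hy4) hz2 hyz (hcen y hy hy4 x hxS)
      exact h.commute_iff rfl rfl (orderOf_sq_four hy4) hz2 hyz hyx (hcen y hy hy4 s hs) (hcen x hxS hx s hs)
  have hfix : ∀ y ∈ S, orderOf y = 4 → Commute x y := fun y hy hy4 =>
    (hunif y hy hy4 x hxS).2 (Commute.refl x)
  set C : Subgroup G := (S : Subgroup G) ⊓ centralizer ({x} : Set G) with hC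
  have hmemC : ∀ {a : G}, a ∈ C ↔ a ∈ S ∧ Commute a x := fun {a} => by
    rw [hC, mem_inf, mem_centralizer_singleton_iff]; rfl
  have hout : ∀ a ∈ S, a ∉ C → a * a = 1 := fun a ha haC => by
    by_contra ha2
    obtain ⟨k, hk⟩ := IsPGroup.iff_orderOf.1 S.isPGroup' ⟨a, ha⟩
    have hak : orderOf a = 2 ^ k := by rw [← hk, Subgroup.orderOf_mk]
    have hk2 : 2 ≤ k := by
      by_contra hk2
      apply ha2
      rw [← pow_two, ← orderOf_dvd_iff_pow_eq_one, hak]
      rcases (show k = 0 ∨ k = 1 by omega) with rfl | rfl <;> norm_num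
    exact haC (hmemC.2 ⟨ha, (hunif _ (pow_mem ha _) (exists_four hak hk2) a ha).1 (Commute.self_pow a _)⟩)
  have hinv : ∀ a ∈ S, a ∉ C → a * x * a⁻¹ = x⁻¹ := fun a ha haC =>
    (h.root rfl hz2 (hcen x hxS hx a ha)).resolve_left fun e => haC (hmemC.2 ⟨ha, mul_inv_eq_iff_eq_mul.1 e⟩)
  have hmul : ∀ a ∈ S, a ∉ C → ∀ b ∈ S, b ∉ C → a * b ∈ C := fun a ha haC b hb hbC => by
    refine hmemC.2 ⟨mul_mem ha hb, mul_inv_eq_iff_eq_mul.1 ?_⟩
    calc a * b * x * (a * b)⁻¹ = a * (b * x * b⁻¹) * a⁻¹ := by group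
      _ = (a * x * a⁻¹)⁻¹ := by rw [hinv b hb hbC]; group
      _ = x := by rw [hinv a ha haC, inv_inv]
  have hCne : ∃ s ∈ S, s ∉ C := by
    by_contra hall
    push Not at hall
    refine hnc (IsMulCommutative.of_comm fun a b => Subtype.ext ?_)
    refine comm_of_central_low S.isPGroup' (fun c hc h4 b hb => ?_)
      (fun c hc b hb hc2 => h.conj_mem_two S.isPGroup' hc hb hc2) a a.2 b b.2
    have hfour : ∀ y ∈ S, orderOf y = 4 → Commute b y := fun y hy hy4 =>
      (hunif y hy hy4 b hb).2 (hmemC.1 (hall b hb)).2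
    by_cases hc2 : c ^ 2 = 1
    · have hxc : Commute x c := ((hmemC.1 (hall c hc)).2).symm
      have hxc4 : orderOf (x * c) = 4 := orderOf_four (z := z) (by
        rw [hxc.symm.mul_mul_mul_comm x c, ← pow_two c, hc2, mul_one]) hz2
      have h1 := (hfour x hxS hx).inv_right.mul_right (hfour _ (mul_mem hxS hc) hxc4)
      rwa [inv_mul_cancel_left] at h1
    · exact hfour c hc (orderOf_eq_prime_pow (p := 2) (n := 1) (by simpa using hc2) (by simpa using h4))
  have D : Dih (S : Subgroup G) C := ⟨inf_le_left, hCne, hmul, hout⟩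
  obtain ⟨s, hs, hsC⟩ := hCne
  have hs2 : orderOf s = 2 := orderOf_eq_prime (by rw [pow_two]; exact hout s hs hsC) fun e => hsC (e ▸ one_mem C)
  obtain ⟨g, hgC, -, hmap⟩ := AltCent.extremal_conj hno S C D.le D.relIndex_two s hs2 hs hsC
  set w := g * s * g⁻¹ with hw
  have hw1 : w * w = 1 := by
    have := hout s hs hsC
    calc w * w = g * (s * s) * g⁻¹ := by rw [hw]; group
      _ = 1 := by rw [this, mul_one, mul_inv_cancel]
  have hwc : ∀ a ∈ S, Commute a w := D.involution_central hgC hw1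
  set E := (S : Subgroup G) ⊓ centralizer ({s} : Set G) with hE
  have hφ : ∀ a ∈ E, g * a * g⁻¹ ∈ S := fun a ha => (mem_inf.1 (hmap ⟨a, ha, by simp⟩)).1
  obtain ⟨e, he, heC⟩ : ∃ e ∈ E, g * e * g⁻¹ ∉ C := by
    by_contra hall
    push Not at hall
    have hle : E.map (MulAut.conj g).toMonoidHom ≤ D.omega := by
      rintro _ ⟨a, ha, rfl⟩
      refine ⟨hall a ha, ?_⟩
      show g * a * g⁻¹ * (g * a * g⁻¹) = 1
      rw [conj_mul, D.centralizer_sq hs hsC ha, mul_one, mul_inv_cancel]
    have hle' := Subgroup.card_le_of_le hle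
    rw [Subgroup.card_map_of_injective (MulAut.conj g).injective, D.card_centralizer hs hsC] at hle'
    have : 0 < Nat.card D.omega := Nat.card_pos
    omega
  -- the image of `E` is the centraliser of `g e g⁻¹`
  have heq : E.map (MulAut.conj g).toMonoidHom = (S : Subgroup G) ⊓ centralizer ({g * e * g⁻¹} : Set G) := by
    refine eq_of_le_of_card_ge ?_ (by
      rw [Subgroup.card_map_of_injective (MulAut.conj g).injective, D.card_centralizer hs hsC,
        D.card_centralizer (hφ e he) heC])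
    rintro _ ⟨a, ha, rfl⟩
    refine ⟨hφ a ha, mem_centralizer_singleton_iff.2 ?_⟩
    show g * a * g⁻¹ * (g * e * g⁻¹) = g * e * g⁻¹ * (g * a * g⁻¹)
    rw [conj_mul, conj_mul, (D.centralizer_comm hs hsC ha he).eq]
  obtain ⟨u, huE, hu⟩ : z ∈ E.map (MulAut.conj g).toMonoidHom := by
    rw [heq]
    exact ⟨mul_mem hxS hxS, mem_centralizer_singleton_iff.2 (hcen x hxS hx _ (hφ e he)).symm⟩
  change g * u * g⁻¹ = z at hu
  set y := g⁻¹ * x * g with hy
  have hyu : y * y = u := by
    rw [← show g⁻¹ * z * g = u by rw [← hu]; group, hy, hz]; group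
  have hu2 : orderOf u = 2 := by rw [← hz2, ← hu]; exact ((MulAut.conj g).orderOf_eq u).symm
  have huS : u ∈ S := (mem_inf.1 huE).1
  by_cases huC : u ∈ C
  · -- a central square: its root is in `S`, and `s` centralises it
    have huc : ∀ a ∈ S, Commute a u := D.involution_central huC (by rw [← pow_two, ← hu2, pow_orderOf_eq_one])
    have hyS : y ∈ S := h.root_mem S hu2 huc hyu
    have hsy : Commute s y := by
      have h1 : g * (s * y) * g⁻¹ = g * (y * s) * g⁻¹ := by
        rw [show g * (s * y) * g⁻¹ = w * x by rw [hw, hy]; group,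
          show g * (y * s) * g⁻¹ = x * w by rw [hw, hy]; group]
        exact (hwc x hxS).eq.symm
      exact mul_left_cancel (mul_right_cancel h1)
    exact hsC (hmemC.2 ⟨hs, (hunif y hyS (orderOf_four hyu hu2) s hs).1 hsy⟩)
  · -- an involution outside `C`: all of `z, v, zv` invert its root
    have hux : ¬ Commute u x := fun e => huC (hmemC.2 ⟨huS, e⟩)
    have hux' : ¬ Commute u x' := fun e => hux ((hunif x' hx'S hx' u huS).1 e)
    have hzu : Commute z u := (hcen x hxS hx u huS).symm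
    have hvu : Commute v u := (hcen x' hx'S hx' u huS).symm
    have hinvy : ∀ r q : G, r * r = q → orderOf q = 2 → r ∈ S → ¬ Commute u r → Commute q u →
        q ≠ u → q * y * q⁻¹ = y⁻¹ := fun r q hr hq hrS hur hqu hqne =>
      (h.root hyu hu2 hqu).resolve_left fun e => hur (by
        have h1 : Commute y q := (mul_inv_eq_iff_eq_mul.1 e : q * y = y * q).symm
        have h2 : Commute r y := h.commute hr hyu hq hu2 hqne h1
        rw [← hyu]; exact (h2.mul_right h2).symm)
    have hzC : z ∈ C := hmemC.2 ⟨mul_mem hxS hxS, (Commute.refl x).mul_left (Commute.refl x)⟩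
    have hvC : v ∈ C := hmemC.2 ⟨mul_mem hx'S hx'S, hxx'.symm.mul_left hxx'.symm⟩
    have h1 := hinvy x z rfl hz2 hxS hux hzu (fun e => huC (e ▸ hzC))
    have h2 := hinvy x' v rfl hv2 hx'S hux' hvu (fun e => huC (e ▸ hvC))
    have hxx4 : (x * x') * (x * x') = z * v := hxx'.symm.mul_mul_mul_comm x x'
    have hzv2 : orderOf (z * v) = 2 := by
      refine orderOf_eq_prime ?_ fun e1 => hne ?_
      · have hzv : Commute z v := (hxx'.mul_right hxx').mul_left (hxx'.mul_right hxx')
        rw [pow_two, hzv.symm.mul_mul_mul_comm z v, ← pow_two z, ← pow_two v, ← hz2, pow_orderOf_eq_one,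
          hz2, ← hv2, pow_orderOf_eq_one, one_mul]
      · rw [eq_inv_of_mul_eq_one_left e1, inv_eq_of_mul_eq_one_right (by
          rw [← pow_two, ← hv2, pow_orderOf_eq_one])]
    have h12 := hinvy (x * x') (z * v) hxx4 hzv2 (mul_mem hxS hx'S)
      (fun e => hux ((hunif _ (mul_mem hxS hx'S) (orderOf_four hxx4 hzv2) u huS).1 e))
      (hzu.mul_left hvu) (fun e => huC (e ▸ mul_mem hzC hvC))
    have h3 : z * v * y * (z * v)⁻¹ = y := by
      calc z * v * y * (z * v)⁻¹ = z * (v * y * v⁻¹) * z⁻¹ := by group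
        _ = (z * y * z⁻¹)⁻¹ := by rw [h2]; group
        _ = y := by rw [h1, inv_inv]
    rw [h3] at h12
    have : u = 1 := by rw [← hyu]; exact eq_inv_iff_mul_eq_one.1 h12
    rw [this, orderOf_one] at hu2
    omega

end Cfsg.Agent.CyclicTI
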