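import Mathlib
import Cfsg.Agent.Lib.CyclicTI.TwoSquares
import Cfsg.Agent.Lib.Classical.CyclicExt
import Cfsg.Agent.Lib.PGroups.UniqueSubgroup
import Cfsg.Agent.S0215

/-!
In a simple group with trivial intersections, a nonabelian Sylow 2-subgroup is dihedral.
-/

set_option autoImplicit false
set_option linter.style.haveILetI false
set_option linter.unusedSectionVars false

namespace Cfsg.Agent.CyclicTI

open Subgroup

universe u

variable {G : Type u} [Group G] [Finite G] [IsSimpleGroup G]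

theorem no_index_two (hG : ¬ IsMulCommutative G) : ∀ H : Subgroup G, H.index ≠ 2 := fun H hH => by
  haveI := Subgroup.normal_of_index_eq_two hH
  rcases (inferInstance : H.Normal).eq_bot_or_eq_top with e | e
  · rw [e, index_bot] at hH
    haveI : IsCyclic G := isCyclic_of_prime_card (p := 2) hH
    exact hG inferInstance
  · rw [e, index_top] at hH; omega

theorem exists_conj_ne (hG : ¬ IsMulCommutative G) (S : Sylow 2 G) {z : G} (hz : orderOf z = 2) (hzS : z ∈ S) :
    ∃ g : G, g * z * g⁻¹ ∈ S ∧ g * z * g⁻¹ ≠ z := by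
  by_contra hall
  push Not at hall
  obtain ⟨N, hN, hodd, hc⟩ := S0215.result S z hz hzS hall
  rcases hN.eq_bot_or_eq_top with e | e
  · have hzc : z ∈ center G := mem_center_iff.2 fun g => by
      have h1 := hc g
      rw [e, mem_bot, mul_inv_eq_one, mul_inv_eq_iff_eq_mul] at h1
      exact h1.symm
    rcases (inferInstance : (center G).Normal).eq_bot_or_eq_top with e' | e'
    · rw [e', mem_bot] at hzc
      rw [hzc, orderOf_one] at hz
      omega
    · exact hG (IsMulCommutative.of_comm fun a b => mem_center_iff.1 (e' ▸ mem_top b) a)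
  · rw [e, Subgroup.card_top] at hodd
    exact (Nat.not_even_iff_odd.2 hodd) (even_iff_two_dvd.2 (hz ▸ orderOf_dvd_natCard z))

/-- Commuting elements of order four have equal squares. -/
theorem TI.sq_eq_of_commute (h : TI G) (hG : ¬ IsMulCommutative G) (S : Sylow 2 G)
    (hnc : ¬ IsMulCommutative (S : Subgroup G)) {a b : G} (ha : orderOf a = 4) (hb : orderOf b = 4)
    (hab : Commute a b) : a * a = b * b := by
  haveI : Fact (Nat.Prime 2) := ⟨Nat.prime_two⟩
  have hn : zpowers a ≤ normalizer ((zpowers b : Subgroup G) : Set G) := fun s hs => by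
    obtain ⟨i, hi⟩ := hs
    refine centralizer_le_normalizer _ (mem_centralizer_iff.2 fun c hc => ?_)
    obtain ⟨j, hj⟩ := hc
    rw [← hi, ← hj]
    exact ((hab.symm.zpow_zpow j i)).eq
  have hp : IsPGroup 2 ↥(zpowers a ⊔ zpowers b) :=
    IsPGroup.to_sup_of_normal_right'
      (IsPGroup.of_card (n := 2) (by rw [Nat.card_zpowers, ha]; norm_num))
      (IsPGroup.of_card (n := 2) (by rw [Nat.card_zpowers, hb]; norm_num)) hn
  obtain ⟨T, hT⟩ := hp.exists_le_sylow
  refine h.sq_eq (no_index_two hG) T (fun hc => hnc (IsMulCommutative.of_comm fun p q => ?_))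
    (hT (mem_sup_left (mem_zpowers a))) ha (hT (mem_sup_right (mem_zpowers b))) hb
  have e : (S : Subgroup G) ≃* (T : Subgroup G) := S.equiv T
  haveI := hc
  exact e.injective (by rw [map_mul, map_mul]; exact mul_comm' _ _)

/-- The structure of a nonabelian Sylow 2-subgroup. -/
theorem TI.exists_dih (h : TI G) (hG : ¬ IsMulCommutative G) (S : Sylow 2 G)
    (hnc : ¬ IsMulCommutative (S : Subgroup G)) :
    ∃ (C : Subgroup G) (x z : G), Dih (S : Subgroup G) C ∧ x ∈ C ∧ x * x = z ∧ orderOf z = 2 ∧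
      (∀ s ∈ S, Commute s z) ∧ (∀ r : G, r * r = z → r ∈ C) ∧
      ∀ y ∈ S, orderOf y = 4 → y * y = z := by
  haveI : Fact (Nat.Prime 2) := ⟨Nat.prime_two⟩
  have hno := no_index_two hG
  obtain ⟨a, haS, ha2⟩ : ∃ a ∈ S, a ^ 2 ≠ 1 := by
    by_contra hall
    push Not at hall
    refine hnc (IsMulCommutative.of_comm fun a b => Subtype.ext ?_)
    have h1 := inv_eq_of_mul_eq_one_right ((pow_two _).symm.trans (hall _ (mul_mem a.2 b.2)))
    rw [mul_inv_rev, inv_eq_of_mul_eq_one_right ((pow_two _).symm.trans (hall _ a.2)),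
      inv_eq_of_mul_eq_one_right ((pow_two _).symm.trans (hall _ b.2))] at h1
    exact h1.symm
  obtain ⟨k, hk⟩ := IsPGroup.iff_orderOf.1 S.isPGroup' ⟨a, haS⟩
  have hak : orderOf a = 2 ^ k := by rw [← hk, Subgroup.orderOf_mk]
  have hk2 : 2 ≤ k := by
    by_contra hk2
    apply ha2
    rw [← orderOf_dvd_iff_pow_eq_one, hak]
    rcases (show k = 0 ∨ k = 1 by omega) with rfl | rfl <;> norm_num
  set x := a ^ 2 ^ (k - 2)
  have hxS : x ∈ S := pow_mem haS _
  have hx : orderOf x = 4 := exists_four hak hk2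
  set z := x * x with hz
  have hz2 : orderOf z = 2 := orderOf_sq_four hx
  have hzc : ∀ s ∈ S, Commute s z := h.sq_central S.isPGroup' hxS hx
  have hsame : ∀ y ∈ S, orderOf y = 4 → y * y = z := fun y hy hy4 => h.sq_eq hno S hnc hy hy4 hxS hx
  -- a conjugate `s` of `z` in `S`
  obtain ⟨g, hgS, hgne⟩ := exists_conj_ne hG S hz2 (mul_mem hxS hxS)
  set s := g * z * g⁻¹ with hs
  have hys : g * x * g⁻¹ * (g * x * g⁻¹) = s := by rw [hs, hz]; group
  have hs2 : orderOf s = 2 := by rw [← hz2]; exact (MulAut.conj g).orderOf_eq z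
  have hinv : ∀ r : G, r * r = z → s * r * s⁻¹ = r⁻¹ := fun r hr =>
    (h.root hr hz2 (hzc s hgS)).resolve_left fun e => hgne (by
      have h1 : Commute r s := (mul_inv_eq_iff_eq_mul.1 e : s * r = r * s).symm
      have h2 : Commute (g * x * g⁻¹) r := h.commute hys hr hs2 hz2 hgne h1
      have h3 := h.sq_eq_of_commute hG S hnc (orderOf_four hys hs2) (orderOf_four hr hz2) h2
      rwa [hys, hr] at h3)
  have hroot : ∀ r : G, r * r = z → r ∈ S := fun r hr => h.root_mem S hz2 hzc hr
  set C : Subgroup G := (S : Subgroup G) ⊓ centralizer ({x} : Set G) with hC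
  have hmemC : ∀ {c : G}, c ∈ C ↔ c ∈ S ∧ Commute c x := fun {c} => by
    rw [hC, mem_inf, mem_centralizer_singleton_iff]; rfl
  have hz_inv : z⁻¹ = z := inv_eq_of_mul_eq_one_right (by rw [← pow_two, ← hz2, pow_orderOf_eq_one])
  -- all roots of `z` centralise `x`
  have hrC : ∀ r : G, r * r = z → r ∈ C := fun r hr => by
    refine hmemC.2 ⟨hroot r hr, ?_⟩
    rcases h.root (show x * x = z from rfl) hz2 (show Commute r z by
      rw [← hr]; exact (Commute.refl r).mul_right (Commute.refl r)) with e | e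
    · exact mul_inv_eq_iff_eq_mul.1 e
    have e1 : r * x = x⁻¹ * r := mul_inv_eq_iff_eq_mul.1 e
    have hxr : x * r * (x * r) = z := by
      calc x * r * (x * r) = x * (r * x) * r := by group
        _ = r * r := by rw [e1]; group
        _ = z := hr
    have f := hinv _ hxr
    rw [← conj_mul, hinv x rfl, hinv r hr, mul_inv_rev] at f
    exact (Commute.inv_inv_iff.1 (show Commute r⁻¹ x⁻¹ from f.symm))
  have hsC : s ∉ C := fun hsC => by
    have h1 := hinv x rfl
    rw [((hmemC.1 hsC).2).eq, mul_inv_cancel_right] at h1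
    rw [show z = 1 from eq_inv_iff_mul_eq_one.1 h1, orderOf_one] at hz2
    omega
  -- `s` inverts `C`
  have hsinv : ∀ c ∈ C, s * c * s⁻¹ = c⁻¹ := fun c hc => by
    obtain ⟨hcS, hcx⟩ := hmemC.1 hc
    by_cases hc2 : c ^ 2 = 1
    · have hxc : x * c * (x * c) = z := by
        rw [hcx.mul_mul_mul_comm x c, ← pow_two c, hc2, mul_one]
      have f := hinv _ hxc
      rw [← conj_mul, hinv x rfl, hcx.symm.mul_inv] at f
      exact mul_left_cancel f
    by_cases hc4 : orderOf c = 4
    · exact hinv c (hsame c hcS hc4)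
    obtain ⟨n, hn⟩ := IsPGroup.iff_orderOf.1 S.isPGroup' ⟨c, hcS⟩
    have hcn : orderOf c = 2 ^ n := by rw [← hn, Subgroup.orderOf_mk]
    set m := s * c with hm
    have hmS : m ∈ S := mul_mem hgS hcS
    have hss : s * s = 1 := by rw [← pow_two, ← hs2, pow_orderOf_eq_one]
    by_cases hm2 : m * m = 1
    · rw [inv_eq_of_mul_eq_one_right hss]
      exact eq_inv_of_mul_eq_one_left (by rw [mul_assoc (s * c)]; exact hm2)
    exfalso
    have hmC : m ∉ C := fun hmC => hsC (by
      have := mul_mem hmC (inv_mem hc)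
      rwa [hm, mul_inv_cancel_right] at this)
    obtain ⟨l, hl⟩ := IsPGroup.iff_orderOf.1 S.isPGroup' ⟨m, hmS⟩
    have hml : orderOf m = 2 ^ l := by rw [← hl, Subgroup.orderOf_mk]
    have hl3 : 3 ≤ l := by
      by_contra hl3
      rcases (show l = 2 ∨ l ≤ 1 by omega) with rfl | hl1
      · exact hmC (hrC m (hsame m hmS (by rw [hml]; norm_num)))
      · apply hm2
        rw [← pow_two, ← orderOf_dvd_iff_pow_eq_one, hml]
        exact (pow_dvd_pow 2 hl1).trans (by norm_num)
    set r := m ^ 2 ^ (l - 2) with hr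
    have hr4 : orderOf r = 4 := exists_four hml (by omega)
    have hrz : r * r = z := hsame r (pow_mem hmS _) hr4
    have hmm : m * m ∈ zpowers c := by
      rw [show m * m = (s * c * s⁻¹) * c by rw [hm, inv_eq_of_mul_eq_one_right hss]; group]
      exact mul_mem (h.conj_mem_two S.isPGroup' hcS hgS hc2) (mem_zpowers c)
    have hrc : Commute c r := by
      rw [hr, show 2 ^ (l - 2) = 2 * 2 ^ (l - 3) by rw [← pow_succ', show l - 3 + 1 = l - 2 by omega],
        pow_mul, pow_two]
      obtain ⟨i, hi⟩ := hmm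
      rw [← hi]
      exact ((Commute.refl c).zpow_right i).pow_right _
    have hrs : Commute s r := by
      have h1 := (Commute.self_pow m (2 ^ (l - 2))).mul_left hrc.inv_left
      rwa [← hr, hm, mul_inv_cancel_right] at h1
    have h1 := hinv r hrz
    rw [hrs.eq, mul_inv_cancel_right] at h1
    have h2 := eq_inv_iff_mul_eq_one.1 h1
    rw [hrz] at h2
    rw [h2, orderOf_one] at hz2
    omega
  have hzne : z ≠ 1 := fun e => by rw [e, orderOf_one] at hz2; omega
  have hxinv : ∀ b ∈ S, b ∉ C → b * x * b⁻¹ = x⁻¹ := fun b hb hbC =>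
    (h.root rfl hz2 (hzc b hb)).resolve_left fun e => hbC (hmemC.2 ⟨hb, mul_inv_eq_iff_eq_mul.1 e⟩)
  have hmul : ∀ b ∈ S, b ∉ C → ∀ c ∈ S, c ∉ C → b * c ∈ C := fun b hb hbC c hc hcC => by
    refine hmemC.2 ⟨mul_mem hb hc, mul_inv_eq_iff_eq_mul.1 ?_⟩
    calc b * c * x * (b * c)⁻¹ = b * (c * x * c⁻¹) * b⁻¹ := by group
      _ = (b * x * b⁻¹)⁻¹ := by rw [hxinv c hc hcC]; group
      _ = x := by rw [hxinv b hb hbC, inv_inv]
  have hsq : ∀ b ∈ S, b ∉ C → b * b = 1 := fun b hb hbC => by
    have f := hsinv _ (hmul b hb hbC s hgS hsC)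
    have hss : s⁻¹ = s := inv_eq_of_mul_eq_one_right (by rw [← pow_two, ← hs2, pow_orderOf_eq_one])
    rw [mul_assoc, mul_inv_cancel_right, mul_inv_rev, hss, mul_left_cancel_iff] at f
    exact eq_inv_iff_mul_eq_one.1 f
  exact ⟨C, x, z, ⟨inf_le_left, ⟨s, hgS, hsC⟩, hmul, hsq⟩, hrC x rfl, rfl, hz2, hzc, hrC, hsame⟩

/-- In a simple group with trivial intersections a nonabelian Sylow 2-subgroup is dihedral. -/
theorem TI.dihedral (h : TI G) (hG : ¬ IsMulCommutative G) (S : Sylow 2 G)
    (hnc : ¬ IsMulCommutative (S : Subgroup G)) :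
    ∃ n, 2 ≤ n ∧ Nonempty ((S : Subgroup G) ≃* DihedralGroup n) := by
  classical
  haveI : Fact (Nat.Prime 2) := ⟨Nat.prime_two⟩
  obtain ⟨C, x, z, D, hxC, hxz, hz2, hzc, hrC, hsame⟩ := h.exists_dih hG S hnc
  have hzC : z ∈ C := hxz ▸ mul_mem hxC hxC
  have hzz : z * z = 1 := by rw [← pow_two, ← hz2, pow_orderOf_eq_one]
  -- the involutions of `C`
  have huniq : ∀ w ∈ C, w * w = 1 → w = 1 ∨ w = z := by
    intro w hw hw2
    by_contra hne
    push Not at hne
    have hwC2 : ∀ c ∈ C, c * c ≠ w := fun c hc e =>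
      hne.2 (e ▸ hsame c (D.le hc) (orderOf_four e (orderOf_eq_prime (by rw [pow_two, hw2]) hne.1)))
    -- a largest subgroup of `C` with all squares and without `w`
    let P : Subgroup G → Prop := fun K => K ≤ C ∧ (∀ c ∈ C, c * c ∈ K) ∧ w ∉ K
    let K₀ : Subgroup G :=
      { carrier := {b | ∃ c ∈ C, c * c = b}
        one_mem' := ⟨1, one_mem _, one_mul 1⟩
        mul_mem' := by
          rintro _ _ ⟨c, hc, rfl⟩ ⟨d, hd, rfl⟩
          exact ⟨c * d, mul_mem hc hd, (D.comm hd hc).mul_mul_mul_comm c d⟩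
        inv_mem' := by
          rintro _ ⟨c, hc, rfl⟩
          exact ⟨c⁻¹, inv_mem hc, (mul_inv_rev c c).symm⟩ }
    obtain ⟨K, ⟨hKC, hKsq, hwK⟩, hKmax⟩ := Set.exists_max_image {K | P K} (fun K => Nat.card K)
      (Set.toFinite _) ⟨K₀, (by rintro _ ⟨c, hc, rfl⟩; exact mul_mem hc hc), fun c hc => ⟨c, hc, rfl⟩,
        fun ⟨c, hc, e⟩ => hwC2 c hc e⟩
    have hK2 : ∀ c ∈ C, c ∈ K ∨ c * w ∈ K := fun c hc => by
      by_contra hcK
      push Not at hcK
      let K' : Subgroup G :=
        { carrier := {b | b ∈ C ∧ (b ∈ K ∨ b * c ∈ K)}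
          one_mem' := ⟨one_mem _, Or.inl (one_mem _)⟩
          mul_mem' := fun {b d} hb hd => ⟨mul_mem hb.1 hd.1, by
            have hcd : Commute c d := D.comm hc hd.1
            rcases hb.2 with h1 | h1 <;> rcases hd.2 with h2 | h2
            · exact Or.inl (mul_mem h1 h2)
            · exact Or.inr (by rw [mul_assoc]; exact mul_mem h1 h2)
            · exact Or.inr (by rw [mul_assoc, ← hcd.eq, ← mul_assoc]; exact mul_mem h1 h2)
            · refine Or.inl ?_
              have h3 := mul_mem (mul_mem h1 h2) (inv_mem (hKsq c hc))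
              rwa [hcd.mul_mul_mul_comm b c, mul_inv_cancel_right] at h3⟩
          inv_mem' := fun {b} hb => ⟨inv_mem hb.1, by
            rcases hb.2 with h1 | h1
            · exact Or.inl (inv_mem h1)
            · refine Or.inr ?_
              have h3 := mul_mem (inv_mem h1) (hKsq c hc)
              rwa [mul_inv_rev, (D.comm hb.1 hc).inv_inv.eq.symm, mul_assoc, inv_mul_cancel_left] at h3⟩ }
      have hle : K ≤ K' := fun b hb => ⟨hKC hb, Or.inl hb⟩
      have hPK : P K' := ⟨fun b hb => hb.1, fun d hd => hle (hKsq d hd), fun hwK' => by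
        rcases hwK'.2 with h1 | h1
        · exact hwK h1
        · exact hcK.2 (by rw [← (D.comm hw hc).eq]; exact h1)⟩
      have heq := eq_of_le_of_card_ge hle (hKmax K' hPK)
      exact hcK.1 (by rw [heq]; exact ⟨hc, Or.inr (hKsq c hc)⟩)
    obtain ⟨s, hsS, hsC⟩ := D.ne
    let M : Subgroup G :=
      { carrier := {b | b ∈ S ∧ (b ∈ K ∨ (b ∉ C ∧ b * s ∈ K))}
        one_mem' := ⟨one_mem _, Or.inl (one_mem _)⟩
        mul_mem' := fun {b d} hb hd => ⟨mul_mem hb.1 hd.1, by
          have hss := D.sq s hsS hsC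
          rcases hb.2 with h1 | ⟨hbC, h1⟩ <;> rcases hd.2 with h2 | ⟨hdC, h2⟩
          · exact Or.inl (mul_mem h1 h2)
          · refine Or.inr ⟨fun hm => hdC ?_, by rw [mul_assoc]; exact mul_mem h1 h2⟩
            have := mul_mem (inv_mem (hKC h1)) hm
            rwa [inv_mul_cancel_left] at this
          · refine Or.inr ⟨fun hm => hbC ?_, ?_⟩
            · have := mul_mem hm (inv_mem (hKC h2))
              rwa [mul_inv_cancel_right] at this
            · have h3 := D.inverts hsS hsC (hKC h2)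
              have h4 : d * s = s * d⁻¹ := by
                rw [← h3, inv_eq_of_mul_eq_one_right hss]
                simp only [← mul_assoc, hss, one_mul]
              rw [mul_assoc, h4, ← mul_assoc]
              exact mul_mem h1 (inv_mem h2)
          · refine Or.inl ?_
            have h5 : b * d = b * s * (d * s)⁻¹ := by
              rw [mul_inv_rev, inv_eq_of_mul_eq_one_right hss, inv_eq_of_mul_eq_one_right (D.sq d hd.1 hdC),
                ← mul_assoc, mul_assoc b s s, hss, mul_one]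
            rw [h5]; exact mul_mem h1 (inv_mem h2)⟩
        inv_mem' := fun {b} hb => ⟨inv_mem hb.1, by
          rcases hb.2 with h1 | ⟨hbC, h1⟩
          · exact Or.inl (inv_mem h1)
          · exact Or.inr (by rw [inv_eq_of_mul_eq_one_right (D.sq b hb.1 hbC)]; exact ⟨hbC, h1⟩)⟩ }
    have hwM : w ∉ M := fun hm => by
      rcases hm.2 with h1 | ⟨h1, -⟩
      · exact hwK h1
      · exact h1 hw
    have hrel : M.relIndex (S : Subgroup G) = 2 := by
      refine Subgroup.index_eq_two_iff.2 ⟨⟨w, D.le hw⟩, fun b => ?_⟩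
      by_cases hb : (b : G) ∈ M
      · refine Or.inr ⟨hb, fun h => hwM ?_⟩
        have := mul_mem (inv_mem hb) (show (b : G) * w ∈ M from h)
        rwa [inv_mul_cancel_left] at this
      · refine Or.inl ⟨⟨mul_mem b.2 (D.le hw), ?_⟩, hb⟩
        by_cases hbC : (b : G) ∈ C
        · exact Or.inl ((hK2 b hbC).resolve_left fun h => hb ⟨b.2, Or.inl h⟩)
        · refine Or.inr ⟨fun hm => hbC ?_, ?_⟩
          · have := mul_mem (show (b : G) * w ∈ C from hm) (inv_mem hw)
            rwa [mul_inv_cancel_right] at this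
          · have h1 := (hK2 _ (D.mul_mem' b b.2 hbC s hsS hsC)).resolve_left
              fun h => hb ⟨b.2, Or.inr ⟨hbC, h⟩⟩
            have hws : Commute s w := D.involution_central hw hw2 s hsS
            show (b : G) * w * s ∈ K
            rwa [mul_assoc, ← hws.eq, ← mul_assoc]
    obtain ⟨g, hgM, -, hmap⟩ := AltCent.extremal_conj (no_index_two hG) S M (fun b hb => hb.1) hrel w
      (orderOf_eq_prime (by rw [pow_two, hw2]) hne.1) (D.le hw) hwM
    have hgS : ∀ a ∈ S, g * a * g⁻¹ ∈ S := fun a ha =>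
      (mem_inf.1 (hmap ⟨a, ⟨ha, mem_centralizer_singleton_iff.2 (D.involution_central hw hw2 a ha).eq⟩,
        by simp⟩)).1
    -- `g` fixes `z`
    have hgz : Commute g z := by
      refine mul_inv_eq_iff_eq_mul.1 (show g * z * g⁻¹ = z from ?_)
      rw [← hxz, show g * (x * x) * g⁻¹ = g * x * g⁻¹ * (g * x * g⁻¹) by group, hxz]
      exact hsame _ (hgS x (D.le hxC)) (by
        rw [← orderOf_four hxz hz2]; exact (MulAut.conj g).orderOf_eq x)
    -- so it sends `w` to `w` or to `w * z`
    have hxw : (x * w) * (x * w) = z := by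
      rw [(D.comm hw hxC).mul_mul_mul_comm x w, hxz, hw2, mul_one]
    have hzw : w * z ∉ M := fun hm => hwM (by
      have hzM : z ∈ M := ⟨D.le hzC, Or.inl (hxz ▸ hKsq x hxC)⟩
      have := mul_mem hm hzM
      rwa [mul_assoc, hzz, mul_one] at this)
    have key : g * w * g⁻¹ = w ∨ g * w * g⁻¹ = w * z := by
      have hcx := h.root hxz hz2 hgz
      have hcw := h.root hxw hz2 hgz
      have e0 : g * w * g⁻¹ = (g * x * g⁻¹)⁻¹ * (g * (x * w) * g⁻¹) := by group
      have hxw' : Commute x w := D.comm hxC hw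
      have hwi : w⁻¹ = w := inv_eq_of_mul_eq_one_right hw2
      have hzi : z⁻¹ = z := inv_eq_of_mul_eq_one_right hzz
      rcases hcx with a | a <;> rcases hcw with b | b <;> rw [e0, a, b]
      · exact Or.inl (inv_mul_cancel_left x w)
      · right
        rw [mul_inv_rev, hwi, ← mul_assoc, hxw'.inv_left.eq, mul_assoc, ← mul_inv_rev, hxz, hzi]
      · right
        rw [inv_inv, ← mul_assoc, hxz, (D.comm hzC hw).eq]
      · left
        rw [inv_inv, mul_inv_rev, hwi, ← mul_assoc, hxw'.eq, mul_inv_cancel_right]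
    rcases key with e | e <;> rw [e] at hgM
    exacts [hwM hgM, hzw hgM]
  haveI : IsMulCommutative C := IsMulCommutative.of_comm fun a b => Subtype.ext (D.comm a.2 b.2).eq
  have hp : IsPGroup 2 C := S.isPGroup'.to_le D.le
  haveI : IsCyclic C := PGroups.UniqueSubgroup.isCyclic_of_abelian hp fun a b ha hb ha1 => by
    rcases huniq a a.2 (by rw [← pow_two]; exact congrArg Subtype.val ha) with e | e
    · exact absurd (Subtype.ext e) ha1
    rcases huniq b b.2 (by rw [← pow_two]; exact congrArg Subtype.val hb) with f | f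
    · rw [show b = 1 from Subtype.ext f]; exact one_mem _
    · rw [show b = a from Subtype.ext (f.trans e.symm)]; exact mem_zpowers _
  obtain ⟨c, hc⟩ := IsCyclic.exists_generator (α := C)
  obtain ⟨s, hsS, hsC⟩ := D.ne
  have hgen : ∀ b ∈ C, b ∈ zpowers (c : G) := fun b hb => by
    obtain ⟨i, hi⟩ := hc ⟨b, hb⟩
    exact ⟨i, congrArg Subtype.val hi⟩
  let c' : (S : Subgroup G) := ⟨c, D.le c.2⟩
  let s' : (S : Subgroup G) := ⟨s, hsS⟩
  have hs' : s' ∉ zpowers c' := fun ⟨i, hi⟩ => hsC (by
    have h1 : (c : G) ^ i = s := congrArg Subtype.val hi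
    rw [← h1]; exact zpow_mem c.2 i)
  obtain ⟨f, hf, hcf, hsf⟩ := Classical.CyclicExt.exists_dihedral_hom (n := orderOf c') c' s' rfl
    (Subtype.ext (D.sq s hsS hsC)) (Subtype.ext (D.inverts hsS hsC c.2)) hs'
  refine ⟨orderOf c', ?_, ⟨(MulEquiv.ofBijective f ⟨hf, fun b => ?_⟩).symm⟩⟩
  · have hzc' : orderOf z ∣ orderOf (c : G) := by
      rw [← Nat.card_zpowers (c : G)]
      exact Subgroup.orderOf_dvd_natCard _ (hgen z hzC)
    rw [hz2] at hzc'
    have h1 : orderOf c' = orderOf (c : G) := (Subgroup.orderOf_coe c').symm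
    have := Nat.le_of_dvd (orderOf_pos (c : G)) hzc'
    omega
  · have hC' : ∀ d : (S : Subgroup G), (d : G) ∈ C → d ∈ f.range := fun d hd => by
      obtain ⟨i, hi⟩ := hgen d hd
      have : c' ^ i = d := Subtype.ext (by rw [Subgroup.coe_zpow]; exact hi)
      rw [← this]; exact zpow_mem hcf i
    by_cases hb : (b : G) ∈ C
    · exact hC' b hb
    · have h1 := mul_mem (hC' (b * s') (D.mul_mem' b b.2 hb s hsS hsC)) hsf
      have h2 : s' * s' = 1 := Subtype.ext (D.sq s hsS hsC)
      rw [mul_assoc, h2, mul_one] at h1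
      exact h1

end Cfsg.Agent.CyclicTI
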