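import Cfsg.Agent.Lib.CyclicTI.Dihedral
import Cfsg.Agent.Lib.CyclicTI.Converse
import Cfsg.Agent.Lib.ReeSylowThree.Witness
import Cfsg.Agent.Lib.Walter.CoatomFact
import Cfsg.Agent.Lib.EqAbConj.Janko
import Cfsg.Agent.S0483

/-!
S3411: a simple group with trivial intersections on cyclic subgroups of prime power order is a linear group
of dimension two or the first Janko group.
-/

set_option autoImplicit false
set_option linter.style.haveILetI false

namespace Cfsg.Agent.CyclicTI

open Subgroup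

universe u

theorem not_ti_alt_seven : ¬ TI (alternatingGroup (Fin 7)) := by
  intro h
  let x : alternatingGroup (Fin 7) :=
    ⟨Equiv.swap 0 1 * Equiv.swap 1 2 * Equiv.swap 2 3 * Equiv.swap 4 5,
      Equiv.Perm.mem_alternatingGroup.2 (by decide +kernel)⟩
  let g : alternatingGroup (Fin 7) :=
    ⟨Equiv.swap 4 5 * Equiv.swap 5 6, Equiv.Perm.mem_alternatingGroup.2 (by decide +kernel)⟩
  have h1 : x ^ 2 ≠ 1 := by decide +kernel
  have h2 : x ^ 4 = 1 := by decide +kernel
  have hx : orderOf x = 2 ^ 2 := by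
    haveI : Fact (Nat.Prime 2) := ⟨Nat.prime_two⟩
    exact orderOf_eq_prime_pow (by simpa using h1) (by simpa using h2)
  have hc : g * x ^ 2 = x ^ 2 * g := by decide +kernel
  obtain ⟨i, hi⟩ := mem_powers_iff_mem_zpowers.2
    (h.conj_mem Nat.prime_two hx (pow_mem (mem_zpowers x) 2) h1 hc)
  have hne : ∀ j : Fin 4, x ^ (j : ℕ) ≠ g * x * g⁻¹ := by decide +kernel
  refine hne ⟨i % 4, Nat.mod_lt _ (by norm_num)⟩ ?_
  have hi' : x ^ i = g * x * g⁻¹ := hi
  show x ^ (i % 4) = _
  rw [← hi']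
  conv_lhs => rw [show 4 = orderOf x by rw [hx]; norm_num]
  exact pow_mod_orderOf x i

variable {G : Type u} [Group G] [Finite G] [IsSimpleGroup G]

/-- The dihedral case. -/
theorem psl_of_dihedral (hG : ¬ IsMulCommutative G) (h : TI G) (S : Sylow 2 G) (n : ℕ) (hn : 2 ≤ n)
    (hS : Nonempty ((S : Subgroup G) ≃* DihedralGroup n)) :
    ∃ (F : Type) (_ : Field F) (_ : Fintype F), 3 < Fintype.card F ∧
      Nonempty (G ≃* Matrix.ProjectiveSpecialLinearGroup (Fin 2) F) := by
  haveI : Group.IsPerfect G := ⟨by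
    rcases (inferInstance : (commutator G).Normal).eq_bot_or_eq_top with e | e
    · exact absurd (IsMulCommutative.of_comm fun a b => commutatorElement_eq_one_iff_mul_comm.1 (by
        have := commutator_mem_commutator (mem_top a) (mem_top b)
        rwa [← _root_.commutator_def, e, mem_bot] at this)) hG
    · exact e⟩
  have hodd : Cfsg.oddCore G = ⊥ := by
    rcases (inferInstance : (Cfsg.oddCore G).Normal).eq_bot_or_eq_top with e | e
    · exact e
    have h1 : Odd (Nat.card (Cfsg.oddCore G)) := Agent.InvChar.Core.odd_card_oddCore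
    rw [e, Subgroup.card_top] at h1
    have h2 : 2 ∣ Nat.card G := by
      obtain ⟨eS⟩ := hS
      have h3 := Subgroup.card_subgroup_dvd_card (S : Subgroup G)
      rw [Nat.card_congr eS.toEquiv, DihedralGroup.nat_card] at h3
      exact (dvd_mul_right 2 n).trans h3
    exact absurd (even_iff_two_dvd.2 h2) (Nat.not_even_iff_odd.2 h1)
  have e0 : G ≃* G ⧸ Cfsg.oddCore G :=
    ((QuotientGroup.quotientMulEquivOfEq hodd).trans QuotientGroup.quotientBot).symm
  rcases Cfsg.Agent.S0483.result S n hn hS with ⟨F, i1, i2, -, h3, ⟨e⟩⟩ | ⟨⟨e⟩⟩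
  · exact ⟨F, i1, i2, h3, ⟨e0.trans e⟩⟩
  · exact absurd (allTI_congr (e0.trans e).symm h) not_ti_alt_seven

/-- The abelian case, from the output of the induction of Walter's theorem. -/
theorem of_good (hG : ¬ IsMulCommutative G) (h : TI G) (hab : SEAbelian.AbTwo G) (hgood : Walter.Good G) :
    (∃ (F : Type) (_ : Field F) (_ : Fintype F), 3 < Fintype.card F ∧
      Nonempty (G ≃* Matrix.ProjectiveSpecialLinearGroup (Fin 2) F)) ∨ Cfsg.Spor.IsoJ1 G := by
  rcases hgood.shape with ⟨F, i1, i2, hq, he⟩ | ⟨-, -, t, E, E₀, F, i1, i2, -, -, -, -, hF8, hF3, hP⟩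
  · refine Or.inl ⟨F, i1, i2, ?_, he⟩
    rcases hq with ⟨k, hk, e⟩ | ⟨-, e⟩
    · rw [e]
      exact lt_of_lt_of_le (by norm_num) (Nat.pow_le_pow_right (show 0 < 2 by norm_num) hk)
    · exact e
  have habP : ∀ P : Sylow 2 G, ∀ a b : P, a * b = b * a := fun P a b =>
    Subtype.ext (hab _ P.isPGroup' a a.2 b b.2).eq
  have hC := Walter.nonempty_centralizer_equiv hP (hgood.field t F E₀ (by omega) hP)
  rcases Cfsg.Agent.S0343.result habP (by omega : 3 ≤ Fintype.card F) t hP.ht hC with
    ⟨m, hm, hF, hc⟩ | ⟨-, hJ⟩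
  · refine (ReeSylowThree.ree_no_trivial_intersection habP hm hF t hP.ht hC hc fun x g hx hg => ?_).elim
    refine h.conj_mem Nat.prime_three (k := 2) (by rw [hx]; norm_num) (pow_mem (mem_zpowers x) 3) (fun e => ?_) hg
    have := orderOf_dvd_of_pow_eq_one e
    rw [hx] at this
    norm_num at this
  · exact Or.inr (EqAbConj.isoJ1_of_isJ1 hJ)

/-- The forward half. -/
theorem models_of_ti (hcore : Walter.CoreFact.{u}) (hfield : Walter.FieldFact.{u}) (hG : ¬ IsMulCommutative G)
    (h : TI G) :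
    (∃ (F : Type) (_ : Field F) (_ : Fintype F), 3 < Fintype.card F ∧
      Nonempty (G ≃* Matrix.ProjectiveSpecialLinearGroup (Fin 2) F)) ∨ Cfsg.Spor.IsoJ1 G := by
  obtain ⟨S⟩ := (inferInstance : Nonempty (Sylow 2 G))
  by_cases hS : IsMulCommutative (S : Subgroup G)
  · have hab := SEAbelian.abTwo_of_sylow S hS
    exact of_good hG h hab (Walter.good_of_facts hcore hfield Walter.coatomFact G inferInstance hG hab)
  · obtain ⟨n, hn, he⟩ := h.dihedral hG S hS
    exact Or.inl (psl_of_dihedral hG h S n hn he)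

/-- S3411 from the two facts of the induction of Walter's theorem. -/
theorem s3411_of_facts (hcore : Walter.CoreFact.{u}) (hfield : Walter.FieldFact.{u})
    (hG : ¬ IsMulCommutative G) :
    (∀ H : Subgroup G, IsCyclic H → IsPrimePow (Nat.card H) → (∀ g : G, (H).map (MulAut.conj g).toMonoidHom = H ∨ (H).map (MulAut.conj g).toMonoidHom ⊓ H = ⊥)) ↔
    ((∃ (F : Type) (_ : Field F) (_ : Fintype F), 3 < Fintype.card F ∧ Nonempty (G ≃* Matrix.ProjectiveSpecialLinearGroup (Fin 2) F)) ∨ Cfsg.Spor.IsoJ1 G) :=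
  ⟨models_of_ti hcore hfield hG, ti_of_models⟩

end Cfsg.Agent.CyclicTI
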